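import Cfsg.Agent.Lib.Recog.NineEight.Arith

/-!
# Six vectors against two weights, the case of `3^3 : S4`
-/

set_option autoImplicit false
set_option linter.unusedSectionVars false
set_option linter.unusedSimpArgs false

namespace Cfsg.Lib.Recog.ThreeCubedFour

open Matrix
open Cfsg.Lib.Recog.ThreeCubed (norm_one_eq_single norm_two_eq_singles wsum)
open Cfsg.Lib.Recog.NineEight (norm_three_eq_singles triangle)

/-- Three points on which a coordinate has no moments are level in it. -/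
theorem level {m0 m1 m2 a0 a1 a2 : ℂ} (h0 : m0 + m1 + m2 = 0)
    (ha : m0 * a0 + m1 * a1 + m2 * a2 = 0)
    (haa : m0 * a0 * a0 + m1 * a1 * a1 + m2 * a2 * a2 = 0) (n0 : m0 ≠ 0) (n1 : m1 ≠ 0)
    (n2 : m2 ≠ 0) : a1 = a0 ∧ a2 = a0 := by
  have e : m1 * (a1 - a0) + m2 * (a2 - a0) = 0 := by linear_combination ha - a0 * h0
  have h : (m1 * m0) * (a1 - a0) ^ 2 = 0 := by
    linear_combination (-m2) * (haa - 2 * a0 * ha + a0 ^ 2 * h0) + (m2 * (a2 - a0) - m1 * (a1 - a0)) * e
      + m1 * (a1 - a0) ^ 2 * h0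
  have d1 : a1 - a0 = 0 :=
    (pow_eq_zero_iff two_ne_zero).mp ((mul_eq_zero.mp h).resolve_left (mul_ne_zero n1 n0))
  refine ⟨sub_eq_zero.mp d1, sub_eq_zero.mp ((mul_eq_zero.mp ?_).resolve_left n2)⟩
  linear_combination e - m1 * d1

/-- The squared offsets of three points on a line. -/
theorem offsets {m0 m1 m2 a0 a1 a2 T : ℂ} (h0 : m0 + m1 + m2 = 0)
    (ha : m0 * a0 + m1 * a1 + m2 * a2 = 0)
    (haa : m0 * a0 * a0 + m1 * a1 * a1 + m2 * a2 * a2 = T) :
    m1 * (a1 - a0) + m2 * (a2 - a0) = 0 ∧ -(m1 * m0) * (a1 - a0) ^ 2 = T * m2 ∧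
      -(m2 * m0) * (a2 - a0) ^ 2 = T * m1 := by
  have e : m1 * (a1 - a0) + m2 * (a2 - a0) = 0 := by linear_combination ha - a0 * h0
  refine ⟨e, ?_, ?_⟩
  · linear_combination m2 * (haa - 2 * a0 * ha + a0 ^ 2 * h0) -
      (m2 * (a2 - a0) - m1 * (a1 - a0)) * e - m1 * (a1 - a0) ^ 2 * h0
  · linear_combination m1 * (haa - 2 * a0 * ha + a0 ^ 2 * h0) -
      (m1 * (a1 - a0) - m2 * (a2 - a0)) * e - m2 * (a2 - a0) ^ 2 * h0

/-- The first relation between the degrees. -/
theorem degree_relation {R al be A C n p f5 g f4 : ℂ} (hR : R ≠ 0)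
    (n0 : n ≠ 0) (p0 : p ≠ 0) (f50 : f5 ≠ 0) (f40 : f4 ≠ 0)
    (eA : f5 * n * A ^ 2 = 2 * R * g) (eC : p * n * C ^ 2 = 2 * R * f4)
    (hg : g = n - f5) (hf : f4 = n + p)
    (U1 : 2 * al * al - 2 * al * (be + A) + (be + A) * (be + A) = 2 * R * (1 / f5 + 1))
    (U2 : 2 * (al + C) * (al + C) - 2 * (al + C) * be + be * be = 2 * R * (1 / p + 1))
    (U3 : 2 * al * (al + C) - (al * be + (al + C) * (be + A)) + (be + A) * be = 2 * R) :
    n * p * (A * C) = -(R * f4) ∧ f5 * f4 = 4 * g * p := by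
  field_simp at U1 U2
  have h : n * p * (A * C) = -(R * f4) := by
    refine mul_left_cancel₀ (mul_ne_zero two_ne_zero f50) ?_
    linear_combination (n * p) * U1 + (n * f5) * U2 - (2 * n * p * f5) * U3 - p * eA - 2 * f5 * eC
      - 2 * R * f5 * hf - 2 * R * p * hg
  refine ⟨h, ?_⟩
  refine mul_left_cancel₀ (mul_ne_zero (pow_ne_zero 2 hR) f40) ?_
  linear_combination (p * (p * n * C ^ 2)) * eA + (2 * R * g * p) * eC +
    f5 * (R * f4 - n * p * (A * C)) * h

/-- The second relation in the main shape, and the degree it forces. -/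
theorem degree_eq_two {R al be A C A' C' n p f5 g f4 : ℂ} (hR : R ≠ 0)
    (n0 : n ≠ 0) (p0 : p ≠ 0) (f50 : f5 ≠ 0) (g0 : g ≠ 0) (f40 : f4 ≠ 0)
    (eA : f5 * n * A ^ 2 = 2 * R * g) (eA' : g * n * A' ^ 2 = 2 * R * f5)
    (eC : p * n * C ^ 2 = 2 * R * f4) (eC' : f4 * n * C' ^ 2 = 2 * R * p)
    (lA : f5 * A + g * A' = 0) (lC : p * C - f4 * C' = 0)
    (hg : g = n - f5) (hf : f4 = n + p)
    (U1 : 2 * al * al - 2 * al * (be + A) + (be + A) * (be + A) = 2 * R * (1 / f5 + 1))
    (U2 : 2 * (al + C) * (al + C) - 2 * (al + C) * be + be * be = 2 * R * (1 / p + 1))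
    (U3 : 2 * al * (al + C) - (al * be + (al + C) * (be + A)) + (be + A) * be = 2 * R)
    (X1 : 3 * al * al - 2 * al * (be + A') + (be + A') * (be + A') = 2 * R * (1 / g + 1))
    (X2 : 3 * (al + C') * (al + C') - 2 * (al + C') * be + be * be = 2 * R * (1 / f4 + 1))
    (X3 : 3 * al * (al + C') - (al * be + (al + C') * (be + A')) + (be + A') * be = 2 * R) :
    p = 2 := by
  obtain ⟨hAC, hrel⟩ := degree_relation hR n0 p0 f50 f40 eA eC hg hf U1 U2 U3
  field_simp at U1 U2 X1 X2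
  have hAC' : n * (g * f4) * (A' * C') = R * f5 * f4 := by
    linear_combination (-f5) * hAC + n * f4 * C' * lA + n * f5 * A * lC
  have h2 : n * (f4 + g) = 11 * p * g := by
    refine mul_left_cancel₀ (mul_ne_zero two_ne_zero hR) ?_
    linear_combination -(n * f4) * X1 - (n * g) * X2 + (2 * n * g * f4) * X3 + f4 * eA' +
      3 * g * eC' + 2 * hAC' + 4 * R * hrel
  have hn3 : n = 3 * p := by
    have e : n * ((n - 3 * p) * (n + p)) * 2 = 0 := by
      linear_combination (n + 5 * p) * (h2 - (n - 11 * p) * hg - n * hf) -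
        (11 * p - n) * (hrel + 4 * p * hg - (f5 * hf))
    have e' := (mul_eq_zero.mp ((mul_eq_zero.mp e).resolve_right two_ne_zero)).resolve_left n0
    exact sub_eq_zero.mp ((mul_eq_zero.mp e').resolve_right (hf ▸ f40))
  have h5 : f5 = 3 / 2 * p := by
    refine mul_left_cancel₀ p0 ?_
    linear_combination (1 / 8 : ℂ) * (hrel + 4 * p * hg - f5 * hf) +
      ((4 * p - f5) / 8) * hn3
  have hgv : g = 3 / 2 * p := by rw [hg, hn3, h5]; ring
  have hfv : f4 = 4 * p := by rw [hf, hn3]; ring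
  subst h5 hn3 hgv hfv
  have hA2 : 3 * p * A ^ 2 = 2 * R := by
    refine mul_left_cancel₀ (mul_ne_zero (by norm_num : (3 / 2 : ℂ) ≠ 0) p0) ?_
    linear_combination eA
  have hA0 : A ≠ 0 := by
    intro h
    rw [h] at hA2
    exact hR (by linear_combination (-1 / 2 : ℂ) * hA2)
  have hC : C = -2 * A := by
    refine mul_left_cancel₀ (mul_ne_zero (mul_ne_zero (by norm_num : (3 : ℂ) ≠ 0) p0)
      (mul_ne_zero p0 hA0)) ?_
    linear_combination hAC + 2 * p * hA2
  have hA'v : A' = -A := by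
    refine mul_left_cancel₀ (mul_ne_zero (by norm_num : (3 / 2 : ℂ) ≠ 0) p0) ?_
    linear_combination lA
  have hC'v : C' = -(A / 2) := by
    refine mul_left_cancel₀ (mul_ne_zero (by norm_num : (4 : ℂ) ≠ 0) p0) ?_
    linear_combination -lC + p * hC
  subst hC hA'v hC'v
  have hp3 := mul_ne_zero (by norm_num : (3 : ℂ) ≠ 0) p0
  have k1 : 2 * al - (be - al) = 3 * A := by
    refine mul_left_cancel₀ (mul_ne_zero (mul_ne_zero two_ne_zero hA0) hp3) ?_
    linear_combination 2 * U1 - 3 * U2 + hA2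
  have k2 : 2 * al * al + (be - al) * (be - al) = 2 * R + 3 * A ^ 2 := by
    refine mul_left_cancel₀ (mul_ne_zero (by norm_num : (4 : ℂ) ≠ 0) p0) ?_
    linear_combination X2 + (4 * p * A) * k1 - hA2
  have hM : be - al = A := by
    refine mul_left_cancel₀ (mul_ne_zero hA0 (mul_ne_zero (by norm_num : (6 : ℂ) ≠ 0) p0)) ?_
    linear_combination -2 * X1 + 3 * p * k2 + 2 * hA2
  have hal : al = 2 * A := by linear_combination (1 / 2 : ℂ) * k1 + (1 / 2 : ℂ) * hM
  have hbe : be = 3 * A := by linear_combination hM + hal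
  subst hal hbe
  refine mul_left_cancel₀ hR ?_
  linear_combination hA2 - (p / 2) * k2

theorem no_shape_deg {n p f5 g f4 : ℤ} (n0 : n ≠ 0) (hp : p = -3 * n) (hf : f4 = n + p)
    (hrel : f5 * f4 = 4 * g * p) (hg : g = n - f5) (hdeg : f5 - p - f4 = -1) : False := by
  subst hp hf
  have : f5 = 6 * g := by
    refine mul_left_cancel₀ (mul_ne_zero (by norm_num : (-2 : ℤ) ≠ 0) n0) ?_
    linear_combination hrel
  omega

/-- The moments. -/
def sA : Fin 6 → ℤ := ![0, 2, 2, 1, 0, 0]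

/-- The mixed moments. -/
def sB : Fin 6 → ℤ := ![0, 0, 2, 1, 0, 0]

/-- The last moments. -/
def sC : Fin 6 → ℤ := ![2, 0, 4, 3, 0, 0]

/-- The degree sums. -/
def sD : Fin 6 → ℤ := ![0, 0, -1, -1, 0, 0]

/-- The inner products. -/
def sG : Fin 6 → Fin 6 → ℤ :=
  ![![3, -1, 1, 1, 0, -1], ![-1, 3, 1, -1, -1, 1], ![1, 1, 3, 0, 0, 0],
    ![1, -1, 0, 3, 1, 0], ![0, -1, 0, 1, 2, 0], ![-1, 1, 0, 0, 0, 2]]

/-- The data. -/
structure SixData (ι : Type*) [Fintype ι] [DecidableEq ι] where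
  d : ι → ℤ
  v : Fin 6 → ι → ℤ
  a : ι → ℂ
  b : ι → ℂ
  R : ℂ
  R_ne : R ≠ 0
  d_pos : ∀ χ, 0 < d χ
  dot : ∀ k l, v k ⬝ᵥ v l = sG k l
  v_d : ∀ k, v k ⬝ᵥ d = sD k
  v_a : ∀ k, wsum (v k) (fun χ => (d χ : ℂ) * a χ) = 0
  v_b : ∀ k, wsum (v k) (fun χ => (d χ : ℂ) * b χ) = 0
  v_aa : ∀ k, wsum (v k) (fun χ => (d χ : ℂ) * a χ * a χ) = R * sA k
  v_ab : ∀ k, wsum (v k) (fun χ => (d χ : ℂ) * a χ * b χ) = R * sB k
  v_bb : ∀ k, wsum (v k) (fun χ => (d χ : ℂ) * b χ * b χ) = R * sC k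

variable {ι : Type*} [Fintype ι] [DecidableEq ι] (X : SixData ι)

/-- The signed degree. -/
def SixData.m (k : Fin 6) (χ : ι) : ℤ := X.v k χ * X.d χ

theorem sG_diag : ∀ k : Fin 6, k.val < 4 → sG k k = 3 := by decide

theorem SixData.pm {k : Fin 6} (hk : k.val < 4) {χ : ι} (h : X.v k χ ≠ 0) :
    X.v k χ = 1 ∨ X.v k χ = -1 := by
  obtain ⟨f, -, hv, hs⟩ := norm_three_eq_singles (v := X.v k) (by rw [X.dot, sG_diag k hk])
  obtain ⟨i, rfl⟩ := hs χ h
  exact hv i

theorem SixData.third {k : Fin 6} (hk : k.val < 4) {x y : ι} (hx : X.v k x ≠ 0)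
    (hy : X.v k y ≠ 0) (hxy : x ≠ y) :
    ∃ z, z ≠ x ∧ z ≠ y ∧ X.v k z ≠ 0 ∧ (∀ w, X.v k w ≠ 0 → w = x ∨ w = y ∨ w = z) ∧
      ∀ f : ι → ℂ, ∑ t, (X.v k t : ℂ) * f t =
        (X.v k x : ℂ) * f x + (X.v k y : ℂ) * f y + (X.v k z : ℂ) * f z := by
  obtain ⟨f, hf, hv, hs⟩ := norm_three_eq_singles (v := X.v k) (by rw [X.dot, sG_diag k hk])
  obtain ⟨i, rfl⟩ := hs x hx
  obtain ⟨j, rfl⟩ := hs y hy
  have hij : i ≠ j := fun e => hxy (congrArg f e)
  have third : ∀ i j : Fin 3, i ≠ j → ∃ l, l ≠ i ∧ l ≠ j ∧ ∀ q, q = i ∨ q = j ∨ q = l := by decide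
  obtain ⟨l, hli, hlj, hall⟩ := third i j hij
  refine ⟨f l, fun e => hli (hf e), fun e => hlj (hf e), fun e => ?_, fun w hw => ?_, fun F => ?_⟩
  · rcases hv l with a | a <;> omega
  · obtain ⟨q, rfl⟩ := hs w hw
    rcases hall q with rfl | rfl | rfl <;> simp
  · have hsub : ∀ t, t ∉ ({f i, f j, f l} : Finset ι) → X.v k t = 0 := by
      intro t ht
      by_contra h
      obtain ⟨q, rfl⟩ := hs t h
      rcases hall q with rfl | rfl | rfl <;> simp at ht
    rw [← Finset.sum_subset (Finset.subset_univ ({f i, f j, f l} : Finset ι))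
      (fun t _ ht => by simp [hsub t ht]),
      Finset.sum_insert (by simp [hf.eq_iff, hij, hli.symm]),
      Finset.sum_insert (by simp [hf.eq_iff, hlj.symm]), Finset.sum_singleton, add_assoc]

/-- The four moment equations at a triple. -/
theorem SixData.equations {k : Fin 6} {x y z : ι}
    (h : ∀ f : ι → ℂ, ∑ t, (X.v k t : ℂ) * f t =
      (X.v k x : ℂ) * f x + (X.v k y : ℂ) * f y + (X.v k z : ℂ) * f z) :
    ((X.m k x : ℂ) + X.m k y + X.m k z = sD k) ∧
    (X.m k x * X.a x + X.m k y * X.a y + X.m k z * X.a z = 0) ∧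
    (X.m k x * X.b x + X.m k y * X.b y + X.m k z * X.b z = 0) ∧
    (X.m k x * X.a x * X.a x + X.m k y * X.a y * X.a y + X.m k z * X.a z * X.a z = X.R * sA k) ∧
    (X.m k x * X.a x * X.b x + X.m k y * X.a y * X.b y + X.m k z * X.a z * X.b z = X.R * sB k) ∧
    (X.m k x * X.b x * X.b x + X.m k y * X.b y * X.b y + X.m k z * X.b z * X.b z = X.R * sC k) := by
  have hd := congrArg (fun t : ℤ => (t : ℂ)) (X.v_d k)
  simp only [dotProduct, Int.cast_sum, Int.cast_mul] at hd
  rw [h] at hd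
  refine ⟨by simpa [SixData.m] using hd, ?_, ?_, ?_, ?_, ?_⟩
  · simpa [SixData.m, wsum, h, mul_assoc] using X.v_a k
  · simpa [SixData.m, wsum, h, mul_assoc] using X.v_b k
  · simpa [SixData.m, wsum, h, mul_assoc] using X.v_aa k
  · simpa [SixData.m, wsum, h, mul_assoc] using X.v_ab k
  · simpa [SixData.m, wsum, h, mul_assoc] using X.v_bb k

theorem det_ne : ∀ k : Fin 6, k = 2 ∨ k = 3 → sA k * sC k - sB k ^ 2 ≠ 0 := by decide

theorem SixData.form {k : Fin 6} (hk : k = 2 ∨ k = 3) {χ ψ : ι} (hχ : X.v k χ ≠ 0)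
    (hψ : X.v k ψ ≠ 0) :
    (sC k : ℂ) * X.a χ * X.a ψ - (sB k : ℂ) * (X.a χ * X.b ψ + X.a ψ * X.b χ) +
        (sA k : ℂ) * X.b χ * X.b ψ =
      X.R * ((sA k : ℂ) * sC k - (sB k : ℂ) ^ 2) *
        ((if χ = ψ then 1 / (X.m k χ : ℂ) else 0) + 1) := by
  have hk4 : k.val < 4 := by rcases hk with rfl | rfl <;> decide
  obtain ⟨f, hinj, -, hs⟩ := norm_three_eq_singles (v := X.v k) (by rw [X.dot, sG_diag k hk4])
  have hsum : ∀ w : ι → ℂ, ∑ y, (X.v k y : ℂ) * w y = ∑ i, (X.v k (f i) : ℂ) * w (f i) := by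
    intro w
    rw [← Finset.sum_image (f := fun y => (X.v k y : ℂ) * w y) (fun a _ b _ h => hinj h)]
    refine (Finset.sum_subset (Finset.subset_univ _) fun y _ hy => ?_).symm
    by_contra h
    obtain ⟨i, hi⟩ := hs y fun e => h (by simp [e])
    exact hy (Finset.mem_image.mpr ⟨i, Finset.mem_univ _, hi⟩)
  have he : ∀ g : ι → ℂ, ∑ t, (X.v k t : ℂ) * g t =
      (X.v k (f 0) : ℂ) * g (f 0) + (X.v k (f 1) : ℂ) * g (f 1) + (X.v k (f 2) : ℂ) * g (f 2) :=
    fun g => by rw [hsum, Fin.sum_univ_three]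
  obtain ⟨e1, ea, eb, eaa, eab, ebb⟩ := X.equations he
  obtain ⟨i, rfl⟩ := hs χ hχ
  obtain ⟨j, rfl⟩ := hs ψ hψ
  have key := triangle (m := fun i => (X.m k (f i) : ℂ)) (a := fun i => X.a (f i))
    (b := fun i => X.b (f i)) (R := X.R) (A := (sA k : ℂ)) (B := (sB k : ℂ)) (C := (sC k : ℂ))
    (by rw [Fin.sum_univ_three, e1]; rcases hk with rfl | rfl <;> simp [sD])
    (by rw [Fin.sum_univ_three]; exact ea) (by rw [Fin.sum_univ_three]; exact eb)
    (by rw [Fin.sum_univ_three]; exact eaa) (by rw [Fin.sum_univ_three]; exact eab)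
    (by rw [Fin.sum_univ_three]; exact ebb) X.R_ne
    (by exact_mod_cast det_ne k hk) i j
  simpa [hinj.eq_iff] using key

/-- Two points of a nondegenerate triple are apart. -/
theorem SixData.apart {k : Fin 6} (hk : k = 2 ∨ k = 3) {χ ψ : ι} (hχ : X.v k χ ≠ 0)
    (hψ : X.v k ψ ≠ 0) (ha : X.a χ = X.a ψ) (hb : X.b χ = X.b ψ) : χ = ψ := by
  by_contra hne
  have e1 := X.form hk hχ hχ
  have e2 := X.form hk hχ hψ
  rw [if_pos rfl] at e1
  rw [if_neg hne] at e2
  rw [← ha, ← hb] at e2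
  have hm : (X.m k χ : ℂ) ≠ 0 := Int.cast_ne_zero.mpr (mul_ne_zero hχ (X.d_pos χ).ne')
  have hD : (sA k : ℂ) * sC k - (sB k : ℂ) ^ 2 ≠ 0 := by exact_mod_cast det_ne k hk
  have : X.R * ((sA k : ℂ) * sC k - (sB k : ℂ) ^ 2) * (1 / (X.m k χ : ℂ)) = 0 := by
    linear_combination e2 - e1
  simp [X.R_ne, hD, hm] at this

/-- Two vectors of norm three with product a sign share exactly one coordinate. -/
theorem SixData.shared {k l : Fin 6} (hk : k.val < 4) (hk0 : sD k = 0) (hl : l.val < 4) {σ : ℤ}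
    (hσ : σ = 1 ∨ σ = -1) (hkl : sG k l = σ) :
    ∃ x, X.v k x ≠ 0 ∧ X.v l x = σ * X.v k x ∧ ∀ y, X.v k y ≠ 0 → X.v l y ≠ 0 → y = x := by
  obtain ⟨f, hf, -, hfs⟩ := norm_three_eq_singles (v := X.v k) (by rw [X.dot, sG_diag k hk])
  obtain ⟨g, hg, -, hgs⟩ := norm_three_eq_singles (v := X.v l) (by rw [X.dot, sG_diag l hl])
  set S := Finset.univ.filter fun y => X.v k y ≠ 0 ∧ X.v l y ≠ 0 with hS
  have hmem : ∀ y, y ∈ S ↔ X.v k y ≠ 0 ∧ X.v l y ≠ 0 := fun y => by simp [hS]
  have hsum : ∑ y ∈ S, X.v k y * X.v l y = σ := by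
    rw [← hkl, ← X.dot k l, dotProduct]
    refine Finset.sum_subset (Finset.subset_univ _) fun y _ hy => ?_
    rw [hmem, not_and, not_not] at hy
    by_cases h : X.v k y = 0
    · simp [h]
    · simp [hy h]
  have hpr : ∀ y ∈ S, X.v k y * X.v l y = 1 ∨ X.v k y * X.v l y = -1 := by
    intro y hy
    rw [hmem] at hy
    rcases X.pm hk hy.1 with a | a <;> rcases X.pm hl hy.2 with b | b <;> simp [a, b]
  have hsub : S ⊆ Finset.univ.image f := fun y hy => by
    obtain ⟨i, hi⟩ := hfs y ((hmem y).mp hy).1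
    exact Finset.mem_image.mpr ⟨i, Finset.mem_univ _, hi⟩
  have h3 : (Finset.univ.image f).card = 3 := by
    rw [Finset.card_image_of_injective _ hf]; rfl
  have hcard : S.card ≤ 3 := h3 ▸ Finset.card_le_card hsub
  rcases (by omega : S.card = 0 ∨ S.card = 1 ∨ S.card = 2 ∨ S.card = 3) with h | h | h | h
  · rw [Finset.card_eq_zero] at h
    simp only [h, Finset.sum_empty] at hsum
    omega
  · obtain ⟨x, hx⟩ := Finset.card_eq_one.mp h
    rw [hx, Finset.sum_singleton] at hsum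
    have hx' := (hmem x).mp (by rw [hx]; exact Finset.mem_singleton_self x)
    refine ⟨x, hx'.1, ?_, fun y h1 h2 => by
      have := (hmem y).mpr ⟨h1, h2⟩
      rwa [hx, Finset.mem_singleton] at this⟩
    rcases X.pm hk hx'.1 with a | a <;> rw [a] at hsum ⊢ <;> omega
  · obtain ⟨x, y, hxy, hx⟩ := Finset.card_eq_two.mp h
    rw [hx, Finset.sum_pair hxy] at hsum
    rcases hpr x (by simp [hx]) with a | a <;> rcases hpr y (by simp [hx]) with b | b <;> omega
  · exfalso
    have hSk : S = Finset.univ.image f := Finset.eq_of_subset_of_card_le hsub (by omega)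
    have hsub' : S ⊆ Finset.univ.image g := fun y hy => by
      obtain ⟨i, hi⟩ := hgs y ((hmem y).mp hy).2
      exact Finset.mem_image.mpr ⟨i, Finset.mem_univ _, hi⟩
    have hSl : S = Finset.univ.image g := Finset.eq_of_subset_of_card_le hsub' (by
      rw [Finset.card_image_of_injective _ hg, h]; rfl)
    have hiff : ∀ y, X.v k y ≠ 0 ↔ X.v l y ≠ 0 := by
      intro y
      constructor
      · intro hy
        obtain ⟨i, hi⟩ := hfs y hy
        exact ((hmem y).mp (hSk ▸ Finset.mem_image.mpr ⟨i, Finset.mem_univ _, hi⟩)).2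
      · intro hy
        obtain ⟨i, hi⟩ := hgs y hy
        exact ((hmem y).mp (hSl ▸ Finset.mem_image.mpr ⟨i, Finset.mem_univ _, hi⟩)).1
    have heven : ∀ y, ∃ w, X.v k y - σ * X.v l y = 2 * w := by
      intro y
      by_cases hy : X.v k y = 0
      · have : X.v l y = 0 := by by_contra e; exact (hiff y).mpr e hy
        exact ⟨0, by rw [hy, this]; ring⟩
      · rcases X.pm hk hy with a | a <;> rcases X.pm hl ((hiff y).mp hy) with b | b <;>
          rcases hσ with rfl | rfl <;>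
          rw [a, b] <;> first | exact ⟨0, rfl⟩ | exact ⟨1, rfl⟩ | exact ⟨-1, rfl⟩
    choose w hw using heven
    have e2 : X.v k - σ • X.v l = (2 : ℤ) • w := funext fun y => by simp [hw y]
    have hn : w ⬝ᵥ w = 1 := by
      have := congrArg (fun t => t ⬝ᵥ t) e2
      simp only [sub_dotProduct, dotProduct_sub, smul_dotProduct, dotProduct_smul, X.dot,
        smul_eq_mul, sG_diag k hk, sG_diag l hl, hkl] at this
      have hlk : sG l k = σ := by rw [← X.dot, dotProduct_comm, X.dot, hkl]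
      rw [hlk] at this
      rcases hσ with rfl | rfl <;> omega
    obtain ⟨x, ε, hε, rfl⟩ := norm_one_eq_single hn
    have he := congrArg (fun t => t ⬝ᵥ X.d) e2
    simp only [sub_dotProduct, X.v_d, smul_dotProduct, single_dotProduct, smul_eq_mul] at he
    have hD : ∀ i : Fin 6, i.val < 4 → sD i = 0 ∨ sD i = -1 := by decide
    have := X.d_pos x
    rcases hε with rfl | rfl <;> rcases hσ with rfl | rfl <;> rcases hD l hl with b | b <;>
      rw [hk0, b] at he <;> omega

/-- The shape of a vector of norm two. -/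
theorem SixData.pair {k : Fin 6} (hk : sG k k = 2) (hd : sD k = 0) (haa : sA k = 0) :
    ∃ x w, x ≠ w ∧ X.v k x ≠ 0 ∧ X.v k w ≠ 0 ∧ (∀ t, X.v k t ≠ 0 → t = x ∨ t = w) ∧
      X.d x = X.d w ∧ X.v k w = -X.v k x ∧ X.a x = X.a w ∧ X.b x = X.b w := by
  obtain ⟨x, w, ε, η, hxw, hε, hη, hv⟩ := norm_two_eq_singles (v := X.v k) (by rw [X.dot, hk])
  have hd' : ε * X.d x + η * X.d w = 0 := by
    have := X.v_d k
    rw [hv, add_dotProduct, single_dotProduct, single_dotProduct, hd] at this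
    exact this
  have hp := X.d_pos x
  have hq := X.d_pos w
  have hdeq : X.d x = X.d w ∧ η = -ε := by
    rcases hε with rfl | rfl <;> rcases hη with rfl | rfl <;> constructor <;> omega
  have ev : X.v k x = ε ∧ X.v k w = η := by
    constructor <;> simp [hv, Pi.single_apply, hxw, hxw.symm]
  have hpos : (ε : ℂ) * (X.d x : ℂ) ≠ 0 := by
    refine mul_ne_zero ?_ (Int.cast_ne_zero.mpr hp.ne')
    rcases hε with rfl | rfl <;> simp
  have hsum : ∀ f : ι → ℂ, wsum (X.v k) f = (ε : ℂ) * f x + (η : ℂ) * f w := by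
    intro f
    simp [hv, wsum, add_mul, Finset.sum_add_distrib, Pi.single_apply]
  refine ⟨x, w, hxw, ?_, ?_, ?_, hdeq.1, by rw [ev.1, ev.2, hdeq.2], ?_, ?_⟩
  · rw [ev.1]; rcases hε with rfl | rfl <;> simp
  · rw [ev.2]; rcases hη with rfl | rfl <;> simp
  · intro t ht
    by_contra h
    push Not at h
    exact ht (by simp [hv, Pi.single_apply, h.1, h.2])
  · have h := X.v_a k
    rw [hsum, ← hdeq.1, hdeq.2] at h
    push_cast at h
    exact mul_left_cancel₀ hpos (by linear_combination h)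
  · have h := X.v_b k
    rw [hsum, ← hdeq.1, hdeq.2] at h
    push_cast at h
    exact mul_left_cancel₀ hpos (by linear_combination h)

theorem SixData.m_ne {k : Fin 6} {χ : ι} (h : X.v k χ ≠ 0) : (X.m k χ : ℂ) ≠ 0 :=
  Int.cast_ne_zero.mpr (mul_ne_zero h (X.d_pos χ).ne')

/-- Some constituent has degree two. -/
theorem SixData.exists_degree_two : ∃ χ, X.d χ = 2 ∧ X.v 1 χ = 1 := by
  have hR := X.R_ne
  obtain ⟨bp, hbP, hbQ, ub⟩ := X.shared (k := 0) (l := 1) (by decide) rfl (by decide) (Or.inr rfl) rfl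
  obtain ⟨y, hyP, hyU, uy⟩ := X.shared (k := 0) (l := 2) (by decide) rfl (by decide) (Or.inl rfl) rfl
  obtain ⟨z, hzQ, hzU, uz⟩ := X.shared (k := 1) (l := 2) (by decide) rfl (by decide) (Or.inl rfl) rfl
  obtain ⟨uX, huP, huX, uu⟩ := X.shared (k := 0) (l := 3) (by decide) rfl (by decide) (Or.inl rfl) rfl
  obtain ⟨wX, hwQ, hwX, uw⟩ := X.shared (k := 1) (l := 3) (by decide) rfl (by decide) (Or.inr rfl) rfl
  rw [one_mul] at hyU hzU huX
  have hbQ' : X.v 1 bp ≠ 0 := by rw [hbQ]; simpa using hbP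
  have hyU' : X.v 2 y ≠ 0 := hyU ▸ hyP
  have hzU' : X.v 2 z ≠ 0 := hzU ▸ hzQ
  have huX' : X.v 3 uX ≠ 0 := huX ▸ huP
  have hwX' : X.v 3 wX ≠ 0 := by rw [hwX]; simpa using hwQ
  have hby : bp ≠ y := by
    intro e
    subst e
    have e := uz bp hbQ' hyU'
    subst e
    rw [hyU] at hzU
    omega
  have hbz : bp ≠ z := by
    intro e
    subst e
    exact hby (uy bp hbP hzU')
  have hyz : y ≠ z := by
    intro e
    subst e
    exact hby (ub y hyP hzQ).symm
  obtain ⟨y', hy'b, hy'y, hy'P, sP, eP⟩ := X.third (k := 0) (by decide) hbP hyP hby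
  obtain ⟨z', hz'b, hz'z, hz'Q, sQ, eQ⟩ := X.third (k := 1) (by decide) hbQ' hzQ hbz
  obtain ⟨t, hty, htz, htU, sU, eU⟩ := X.third (k := 2) (by decide) hyU' hzU' hyz
  obtain ⟨P0, P1a, P1b, P2a, -, P2b⟩ := X.equations eP
  obtain ⟨Q0, Q1a, Q1b, Q2a, -, Q2b⟩ := X.equations eQ
  obtain ⟨U0, U1a, -, -, -, -⟩ := X.equations eU
  simp only [sA, sB, sC, sD, Matrix.cons_val_zero, Matrix.cons_val_one, Matrix.cons_val,
    Int.cast_zero, mul_zero, Int.cast_ofNat, Int.cast_neg, Int.cast_one]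
    at P0 P1a P1b P2a P2b Q0 Q1a Q1b Q2a Q2b U0 U1a
  -- the levels
  obtain ⟨hya, hy'a⟩ := level P0 P1a P2a (X.m_ne hbP) (X.m_ne hyP) (X.m_ne hy'P)
  obtain ⟨hzb, hz'b'⟩ := level Q0 Q1b Q2b (X.m_ne hbQ') (X.m_ne hzQ) (X.m_ne hz'Q)
  obtain ⟨lA, eA, eA'⟩ := offsets P0 P1b P2b
  obtain ⟨lC, eC, eC'⟩ := offsets Q0 Q1a Q2a
  -- names
  set al := X.a bp with hal
  set be := X.b bp with hbe
  set A := X.b y - be with hA
  set A' := X.b y' - be with hA'
  set C := X.a z - al with hC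
  set C' := X.a z' - al with hC'
  set f5 := X.m 0 y with hf5
  set g := X.m 0 y' with hgg
  set p := X.m 1 z with hpp
  set f4 := -X.m 1 z' with hf4
  set n := X.m 1 bp with hn
  have hmb : X.m 0 bp = -n := by simp [hn, SixData.m, hbQ]
  have hgi : g = n - f5 := by
    have h : X.m 0 bp + f5 + g = 0 := by exact_mod_cast P0
    omega
  have hfi : f4 = n + p := by
    have h : n + p + X.m 1 z' = 0 := by exact_mod_cast Q0
    omega
  have nb : (n : ℂ) ≠ 0 := X.m_ne hbQ'
  have np : (p : ℂ) ≠ 0 := X.m_ne hzQ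
  have n5 : (f5 : ℂ) ≠ 0 := X.m_ne hyP
  have ng : (g : ℂ) ≠ 0 := X.m_ne hy'P
  have n4 : (f4 : ℂ) ≠ 0 := by
    rw [hf4, Int.cast_neg]; exact neg_ne_zero.mpr (X.m_ne hz'Q)
  have cf4 : (X.m 1 z' : ℂ) = -(f4 : ℂ) := by rw [hf4]; push_cast; ring
  rw [hmb, Int.cast_neg] at eA eA'
  rw [cf4] at eC eC' lC
  have eA1 : (f5 : ℂ) * n * A ^ 2 = 2 * X.R * g := by linear_combination eA
  have eA2 : (g : ℂ) * n * A' ^ 2 = 2 * X.R * f5 := by linear_combination eA'
  have eC1 : (p : ℂ) * n * C ^ 2 = 2 * X.R * f4 := by linear_combination -eC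
  have eC2 : (f4 : ℂ) * n * C' ^ 2 = 2 * X.R * p := by linear_combination eC'
  have hA0 : A ≠ 0 := fun e => by
    rw [e] at eA1; simp [hR, ng] at eA1
  have hA'0 : A' ≠ 0 := fun e => by
    rw [e] at eA2; simp [hR, n5] at eA2
  have hC0 : C ≠ 0 := fun e => by
    rw [e] at eC1; simp [hR, n4] at eC1
  have hC'0 : C' ≠ 0 := fun e => by
    rw [e] at eC2; simp [hR, np] at eC2
  -- points of `P` and `Q` are apart
  have apP : ∀ χ, X.v 0 χ ≠ 0 → X.b χ = be → χ = bp := by
    intro χ hχ e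
    rcases sP χ hχ with h | h | h
    · exact h
    · exact absurd (by rw [hA, ← h, e, sub_self]) hA0
    · exact absurd (by rw [hA', ← h, e, sub_self]) hA'0
  have apQ : ∀ χ, X.v 1 χ ≠ 0 → X.a χ = al → χ = bp := by
    intro χ hχ e
    rcases sQ χ hχ with h | h | h
    · exact h
    · exact absurd (by rw [hC, ← h, e, sub_self]) hC0
    · exact absurd (by rw [hC', ← h, e, sub_self]) hC'0
  -- the forms in `U`
  have fU1 := X.form (k := 2) (Or.inl rfl) hyU' hyU'
  have fU2 := X.form (k := 2) (Or.inl rfl) hzU' hzU'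
  have fU3 := X.form (k := 2) (Or.inl rfl) hyU' hzU'
  have emy : X.m 2 y = f5 := by simp [hf5, SixData.m, hyU]
  have emz : X.m 2 z = p := by simp [hpp, SixData.m, hzU]
  rw [if_pos rfl, emy] at fU1
  rw [if_pos rfl, emz] at fU2
  rw [if_neg hyz] at fU3
  simp only [sA, sB, sC, Matrix.cons_val, Int.cast_ofNat] at fU1 fU2 fU3
  have ya : X.a y = al := hya
  have zb : X.b z = be := hzb
  have yb : X.b y = be + A := by rw [hA]; ring
  have za : X.a z = al + C := by rw [hC]; ring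
  rw [ya, yb] at fU1
  rw [za, zb] at fU2
  rw [ya, yb, za, zb] at fU3
  have U1 : 2 * al * al - 2 * al * (be + A) + (be + A) * (be + A) =
      2 * X.R * (1 / (f5 : ℂ) + 1) := by linear_combination (1 / 2 : ℂ) * fU1
  have U2 : 2 * (al + C) * (al + C) - 2 * (al + C) * be + be * be =
      2 * X.R * (1 / (p : ℂ) + 1) := by linear_combination (1 / 2 : ℂ) * fU2
  have U3 : 2 * al * (al + C) - (al * be + (al + C) * (be + A)) + (be + A) * be = 2 * X.R := by
    linear_combination (1 / 2 : ℂ) * fU3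
  have hgc : (g : ℂ) = n - f5 := by rw [hgi]; push_cast; ring
  have hfc : (f4 : ℂ) = n + p := by rw [hfi]; push_cast; ring
  obtain ⟨-, hrel⟩ := degree_relation hR nb np n5 n4 eA1 eC1 hgc hfc U1 U2 U3
  -- disjointness of the third and fourth vectors
  have hUX : ∀ s, X.v 2 s ≠ 0 → X.v 3 s ≠ 0 →
      ∃ q, q ≠ s ∧ X.v 2 q ≠ 0 ∧ X.v 3 q ≠ 0 ∧
        (X.v 3 s = X.v 2 s → (∀ r, X.v 2 r ≠ 0 → X.v 3 r ≠ 0 → r = s ∨ r = q) →
          X.v 3 q = -X.v 2 q) ∧
        (X.v 3 s = -X.v 2 s → (∀ r, X.v 2 r ≠ 0 → X.v 3 r ≠ 0 → r = s ∨ r = q) →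
          X.v 3 q = X.v 2 q) := by
    intro s h2 h3
    have hd := X.dot 2 3
    have hs0 : (sG 2 3) = 0 := rfl
    rw [hs0, dotProduct, ← Finset.add_sum_erase _ _ (Finset.mem_univ s)] at hd
    obtain ⟨q, hq, hq0⟩ := Finset.exists_ne_zero_of_sum_ne_zero
      (s := Finset.univ.erase s) (f := fun t => X.v 2 t * X.v 3 t) (by
        intro e
        rw [e, add_zero] at hd
        exact mul_ne_zero h2 h3 hd)
    refine ⟨q, (Finset.mem_erase.mp hq).1, left_ne_zero_of_mul hq0, right_ne_zero_of_mul hq0,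
      ?_, ?_⟩
    all_goals
      intro hs hall
      rw [Finset.sum_eq_single q (fun r hr hrq => by
        by_contra h
        rcases hall r (left_ne_zero_of_mul h) (right_ne_zero_of_mul h) with e | e
        · exact (Finset.mem_erase.mp hr).1 e
        · exact hrq e) (fun h => absurd hq h), hs] at hd
      rcases X.pm (k := 2) (by decide) h2 with a | a <;>
        rcases X.pm (k := 2) (by decide) (left_ne_zero_of_mul hq0) with b | b <;>
        rw [a, b] at hd <;> rw [b] <;> omega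
  by_cases hu : uX = bp
  · -- the shared point of `P` and `Q` is in `X`
    exfalso
    subst hu
    obtain ⟨x, w, hxw, hx, hw, sD2, -, hsign, hab, hbb⟩ := X.pair (k := 5) rfl rfl rfl
    have hd0 : X.v 0 x * X.v 5 x + X.v 0 w * X.v 5 w = -1 ∧
        X.v 1 x * X.v 5 x + X.v 1 w * X.v 5 w = 1 ∧
        X.v 3 x * X.v 5 x + X.v 3 w * X.v 5 w = 0 := by
      have key : ∀ k, X.v k ⬝ᵥ X.v 5 = X.v k x * X.v 5 x + X.v k w * X.v 5 w := by
        intro k
        rw [dotProduct, ← Finset.sum_pair hxw (f := fun s => X.v k s * X.v 5 s)]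
        refine (Finset.sum_subset (Finset.subset_univ _) fun s _ hs => ?_).symm
        simp only [Finset.mem_insert, Finset.mem_singleton] at hs
        by_contra h
        exact hs (sD2 s (right_ne_zero_of_mul h))
      refine ⟨?_, ?_, ?_⟩ <;> rw [← key, X.dot] <;> rfl
    obtain ⟨h0, h1, h3⟩ := hd0
    have meet : x = uX ∨ w = uX := by
      by_contra h
      push Not at h
      have hP : ∀ s, X.v 0 s ≠ 0 → s ≠ uX → X.a s = al := fun s hs _ => by
        rcases sP s hs with e | e | e <;> rw [e]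
        · exact hya
        · exact hy'a
      obtain ⟨s1, hs1, hs1P⟩ : ∃ s, (s = x ∨ s = w) ∧ X.v 0 s ≠ 0 := by
        by_contra h'
        push Not at h'
        rw [h' x (Or.inl rfl), h' w (Or.inr rfl)] at h0
        simp at h0
      obtain ⟨s2, hs2, hs2Q⟩ : ∃ s, (s = x ∨ s = w) ∧ X.v 1 s ≠ 0 := by
        by_contra h'
        push Not at h'
        rw [h' x (Or.inl rfl), h' w (Or.inr rfl)] at h1
        simp at h1
      have heq : X.a s2 = X.a s1 := by
        rcases hs1 with rfl | rfl <;> rcases hs2 with rfl | rfl <;>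
          first | rfl | exact hab | exact hab.symm
      have hs1b : s1 ≠ uX := by rcases hs1 with rfl | rfl <;> tauto
      have hs2b : s2 ≠ uX := by rcases hs2 with rfl | rfl <;> tauto
      exact hs2b (apQ s2 hs2Q (heq.trans (hP s1 hs1P hs1b)))
    rcases meet with rfl | rfl
    · by_cases hw3 : X.v 3 w = 0
      · rw [hw3] at h3
        simp [huX', hx] at h3
      · exact hxw (X.apart (Or.inr rfl) huX' hw3 hab hbb)
    · by_cases hx3 : X.v 3 x = 0
      · rw [hx3] at h3
        simp [huX', hw] at h3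
      · exact hxw (X.apart (Or.inr rfl) hx3 huX' hab hbb)
  have hwb : wX ≠ bp := fun e => hu (uu bp hbP (e ▸ hwX')).symm
  have huQ : X.v 1 uX = 0 := by_contra fun h => hu (ub uX huP h)
  have hwP : X.v 0 wX = 0 := by_contra fun h => hwb (ub wX h hwQ)
  have huw : uX ≠ wX := fun e => (e ▸ huP) hwP
  obtain ⟨r, hru, hrw, hrX, sX, eX⟩ := X.third (k := 3) (by decide) huX' hwX' huw
  obtain ⟨X0, X1a, -, -, -, -⟩ := X.equations eX
  simp only [sA, sB, sC, sD, Matrix.cons_val, Int.cast_neg, Int.cast_one] at X0 X1a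
  rcases sP uX huP with h | h | h
  · exact absurd h hu
  all_goals rcases sQ wX hwQ with h' | h' | h'
  all_goals first | exact (hwb h').elim | (subst h h')
  · -- the points `y` and `z`
    exfalso
    have fX1 := X.form (k := 3) (Or.inr rfl) huX' huX'
    have fX2 := X.form (k := 3) (Or.inr rfl) hwX' hwX'
    have emy' : X.m 3 uX = f5 := by simp [hf5, SixData.m, huX]
    have emz' : X.m 3 wX = -p := by simp [hpp, SixData.m, hwX]
    rw [if_pos rfl, emy'] at fX1
    rw [if_pos rfl, emz', Int.cast_neg] at fX2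
    simp only [sA, sB, sC, Matrix.cons_val, Int.cast_ofNat, Int.cast_one] at fX1 fX2
    rw [ya, yb] at fX1
    rw [za, zb] at fX2
    have al0 : al = 0 := by
      have : al ^ 2 = 0 := by linear_combination fX1 - U1
      simpa using this
    have hC2 : C ^ 2 = -(4 * X.R) * (1 / (p : ℂ)) := by
      rw [al0, div_neg] at fX2
      rw [al0] at U2
      linear_combination fX2 - U2
    have hf4n : (f4 : ℂ) = -2 * n := by
      refine mul_left_cancel₀ (mul_ne_zero two_ne_zero hR) ?_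
      have : (p : ℂ) * C ^ 2 = -(4 * X.R) := by rw [hC2]; field_simp
      linear_combination -eC1 + (n : ℂ) * this
    obtain ⟨x, w, hxw, hx, hw, sD1, hdd, hsign, hab, hbb⟩ := X.pair (k := 4) rfl rfl rfl
    have key : ∀ k, X.v k ⬝ᵥ X.v 4 = X.v k x * X.v 4 x + X.v k w * X.v 4 w := by
      intro k
      rw [dotProduct, ← Finset.sum_pair hxw (f := fun s => X.v k s * X.v 4 s)]
      refine (Finset.sum_subset (Finset.subset_univ _) fun s _ hs => ?_).symm
      simp only [Finset.mem_insert, Finset.mem_singleton] at hs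
      by_contra h
      exact hs (sD1 s (right_ne_zero_of_mul h))
    obtain ⟨q, q', hqq, hq, hq', hdq, hsq, haq, hbq, hqQ, keyq⟩ :
        ∃ q q', q ≠ q' ∧ X.v 4 q ≠ 0 ∧ X.v 4 q' ≠ 0 ∧ X.d q = X.d q' ∧ X.v 4 q' = -X.v 4 q ∧
          X.a q = X.a q' ∧ X.b q = X.b q' ∧ X.v 1 q ≠ 0 ∧
          ∀ k, sG k 4 = X.v k q * X.v 4 q + X.v k q' * X.v 4 q' := by
      by_cases h : X.v 1 x = 0
      · refine ⟨w, x, hxw.symm, hw, hx, hdd.symm, by omega, hab.symm, hbb.symm, ?_, fun k => by
          rw [← X.dot, key]; ring⟩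
        intro e
        have := key 1
        rw [X.dot, h, e] at this
        simp [sG] at this
      · exact ⟨x, w, hxw, hx, hw, hdd, hsign, hab, hbb, h, fun k => by rw [← X.dot, key]⟩
    have k0 := keyq 0
    have k1 := keyq 1
    have k2 := keyq 2
    have k3 := keyq 3
    simp only [sG, Matrix.cons_val_zero, Matrix.cons_val_one, Matrix.cons_val] at k0 k1 k2 k3
    rcases sQ q hqQ with rfl | rfl | rfl
    · -- at `bp`
      have hP' : X.v 0 q' ≠ 0 := fun e => by rw [e] at k0; simp [hbP, hq] at k0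
      exact hqq (apP q' hP' hbq.symm).symm
    · -- at the point of `U`
      have hU' : X.v 2 q' ≠ 0 := fun e => by rw [e] at k2; simp [hzU', hq] at k2
      exact hqq (X.apart (Or.inl rfl) hzU' hU' haq hbq)
    · have hq3 : X.v 3 q = 0 := by_contra fun h => hz'z (uw q hqQ h)
      rw [hq3, zero_mul, zero_add] at k3
      have hq3' : X.v 3 q' ≠ 0 := fun e => by rw [e] at k3; simp at k3
      have hq2 : X.v 2 q = 0 := by_contra fun h => hz'z (uz q hqQ h)
      rw [hq2, zero_mul, zero_add] at k2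
      have hq2' : X.v 2 q' = 0 := (mul_eq_zero.mp k2.symm).resolve_right hq'
      have hq1 : X.v 1 q' = 0 := by
        by_contra h
        rcases sQ q' h with e | e | e
        · subst e; exact hqq (apQ q hqQ haq)
        · subst e; exact hzU' hq2'
        · exact hqq e.symm
      rw [hq1, zero_mul, add_zero] at k1
      have hqr : q' = r := by
        rcases sX q' hq3' with e | e | e
        · subst e; exact absurd hq2' hyU'
        · subst e; exact absurd hq2' hzU'
        · exact e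
      subst hqr
      have hmr : X.m 3 q' = -f4 := by
        simp only [hf4, SixData.m, neg_neg, ← hdq]
        congr 1
        rw [hsq] at k3
        rcases X.pm (k := 1) (by decide) hqQ with a | a <;> rw [a] at k1 ⊢ <;>
          rcases X.pm (k := 3) (by decide) hq3' with b | b <;> rw [b] at k3 ⊢ <;> omega
      rw [emy', emz', hmr] at X0
      have hdeg : f5 - p - f4 = -1 := by
        have : f5 + -p + -f4 = -1 := by exact_mod_cast X0
        omega
      have hp3 : p = -3 * n := by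
        have : f4 = -2 * n := by exact_mod_cast hf4n
        omega
      exact no_shape_deg (by exact_mod_cast nb) hp3 hfi (by exact_mod_cast hrel) hgi hdeg
  · -- the points `y` and `z'`
    exfalso
    obtain ⟨q, hqs, hq2, hq3, hs1, -⟩ := hUX uX hyU' huX'
    have hqt : q = t := by
      rcases sU q hq2 with e | e | e
      · exact absurd e hqs
      · subst e; exact absurd (uw q hzQ hq3) hz'z.symm
      · exact e
    subst hqt
    have hall : ∀ s, X.v 2 s ≠ 0 → X.v 3 s ≠ 0 → s = uX ∨ s = q := by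
      intro s h2 h3
      rcases sU s h2 with e | e | e
      · exact Or.inl e
      · subst e; exact absurd (uw s hzQ h3) hz'z.symm
      · exact Or.inr e
    have hopp := hs1 (huX.trans hyU.symm) hall
    have hrq : r = q := by
      rcases sX q hq3 with e | e | e
      · exact absurd e hqs
      · subst e; exact absurd (uz q hwQ htU) hz'z
      · exact e.symm
    subst hrq
    have emy' : X.m 3 uX = f5 := by simp [hf5, SixData.m, huX]
    have al0 : al = 0 := by
      have fX1 := X.form (k := 3) (Or.inr rfl) huX' huX'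
      rw [if_pos rfl, emy'] at fX1
      simp only [sA, sB, sC, Matrix.cons_val, Int.cast_ofNat, Int.cast_one] at fX1
      rw [ya, yb] at fX1
      have : al ^ 2 = 0 := by linear_combination fX1 - U1
      simpa using this
    have emz' : X.m 3 wX = f4 := by simp [hf4, SixData.m, hwX]
    have emt : X.m 3 r = -X.m 2 r := by simp [SixData.m, hopp]
    rw [emy', emz', emt] at X1a X0
    rw [show ((-X.m 2 r : ℤ) : ℂ) = -(X.m 2 r : ℂ) from Int.cast_neg _] at X1a X0
    rw [emy, emz] at U1a U0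
    rw [ya, za] at U1a
    rw [ya, show X.a wX = al + C' by rw [hC']; ring] at X1a
    have : (p : ℂ) * C * 2 = 0 := by
      linear_combination U1a + X1a - al * U0 - al * X0 + lC + 2 * al0
    simp [np, hC0] at this
  · -- the points `y'` and `z`
    exfalso
    obtain ⟨q, hqs, hq2, hq3, -, hs2⟩ := hUX wX hzU' hwX'
    have hqt : q = t := by
      rcases sU q hq2 with e | e | e
      · subst e; exact absurd (uu q hyP hq3) hy'y.symm
      · exact absurd e hqs
      · exact e
    subst hqt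
    have hall : ∀ s, X.v 2 s ≠ 0 → X.v 3 s ≠ 0 → s = wX ∨ s = q := by
      intro s h2 h3
      rcases sU s h2 with e | e | e
      · subst e; exact absurd (uu s hyP h3) hy'y.symm
      · exact Or.inl e
      · exact Or.inr e
    have hsame := hs2 (by rw [hwX, hzU]; ring) hall
    have hrq : r = q := by
      rcases sX q hq3 with e | e | e
      · subst e; exact absurd (uy q huP htU) hy'y
      · exact absurd e hqs
      · exact e.symm
    subst hrq
    have emy' : X.m 3 uX = g := by simp [hgg, SixData.m, huX]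
    have emz' : X.m 3 wX = -p := by simp [hpp, SixData.m, hwX]
    have emt : X.m 3 r = X.m 2 r := by simp [SixData.m, hsame]
    rw [emy', emz', emt, Int.cast_neg] at X1a X0
    rw [emy, emz] at U1a U0
    rw [ya, za] at U1a
    rw [show X.a uX = al from hy'a, za] at X1a
    have : (p : ℂ) * C * 2 = 0 := by linear_combination U1a - X1a - al * U0 + al * X0
    simp [np, hC0] at this
  · -- the main shape
    have fX1 := X.form (k := 3) (Or.inr rfl) huX' huX'
    have fX2 := X.form (k := 3) (Or.inr rfl) hwX' hwX'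
    have fX3 := X.form (k := 3) (Or.inr rfl) huX' hwX'
    have emy' : X.m 3 uX = g := by simp [hgg, SixData.m, huX]
    have emz' : X.m 3 wX = f4 := by simp [hf4, SixData.m, hwX]
    rw [if_pos rfl, emy'] at fX1
    rw [if_pos rfl, emz'] at fX2
    rw [if_neg huw] at fX3
    simp only [sA, sB, sC, Matrix.cons_val, Int.cast_ofNat, Int.cast_one] at fX1 fX2 fX3
    have y'a : X.a uX = al := hy'a
    have y'b : X.b uX = be + A' := by rw [hA']; ring
    have z'a : X.a wX = al + C' := by rw [hC']; ring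
    rw [y'a, y'b] at fX1
    rw [z'a, hz'b'] at fX2
    rw [y'a, y'b, z'a, hz'b'] at fX3
    have h2 : (p : ℂ) = 2 := degree_eq_two hR nb np n5 ng n4 eA1 eA2 eC1 eC2
      (by linear_combination lA) (by linear_combination lC) hgc hfc U1 U2 U3
      (by linear_combination fX1) (by linear_combination fX2) (by linear_combination fX3)
    have h2' : X.v 1 z * X.d z = 2 := by exact_mod_cast h2
    have := X.d_pos z
    rcases X.pm (k := 1) (by decide) hzQ with a | a <;> rw [a] at h2'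
    · exact ⟨z, by omega, a⟩
    · omega

end Cfsg.Lib.Recog.ThreeCubedFour
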