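import Cfsg.Agent.Lib.Recog.ThreeCubedFour.Model

/-!
# Finite facts on `3^3 : S4`
-/

set_option autoImplicit false
set_option maxRecDepth 100000
set_option synthInstance.maxSize 2000
set_option synthInstance.maxHeartbeats 200000

namespace Cfsg.Lib.Recog.ThreeCubedFour

/-- The ninth power. -/
def nine (x : Model) : Model := x * x * x * (x * x * x) * (x * x * x)

theorem nine_eq (x : Model) : nine x = x ^ 9 := by
  simp only [nine, pow_succ, pow_zero, one_mul, mul_assoc]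

/-- A single three-cycle fixed by `flipAB`. -/
def cubA : Model := rotC

/-- A double three-cycle fixed by `blkSwap`. -/
def cubB : Model := rotA * rotB

theorem invol_cover : ∀ x : Model, x * x = 1 → x ≠ 1 → x ∈ setA ∨ x ∈ setB := by decide +kernel

theorem sets_sq : ∀ x : Model, x ∈ setA ∨ x ∈ setB → x * x = 1 ∧ x ≠ 1 := by decide +kernel

theorem sets_reps : flipAB ∈ setA ∧ blkSwap ∈ setB := by decide +kernel

theorem setA_conj : ∀ x ∈ setA, ∃ g : Model, g * flipAB * g⁻¹ = x := by decide +kernel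

theorem setB_conj : ∀ x ∈ setB, ∃ g : Model, g * blkSwap * g⁻¹ = x := by decide +kernel

theorem cub_facts : (InBase cubA ∧ cubA ≠ 1 ∧ flipAB * cubA = cubA * flipAB) ∧
    (InBase cubB ∧ cubB ≠ 1 ∧ blkSwap * cubB = cubB * blkSwap) := by
  decide +kernel

theorem cub_not_conj : ∀ g : Model, g * cubA * g⁻¹ ≠ cubB ∧ g * cubA * g⁻¹ ≠ cubB⁻¹ := by
  decide +kernel

theorem cent_blkSwap : ∀ x : Model, x * blkSwap = blkSwap * x → nine x = 1 →
    x = 1 ∨ x = cubB ∨ x = cubB⁻¹ := by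
  decide +kernel

theorem inBase_cube : ∀ x : Model, InBase x → x ^ 3 = 1 := by decide +kernel

theorem inBase_iff : ∀ x : Model, InBase x ↔
    ∃ i j k : Fin 3, x = rotA ^ i.val * rotB ^ j.val * rotC ^ k.val := by
  decide +kernel

theorem inBase_comm : ∀ i j : Fin 3, ∀ x ∈ [rotA, rotB, rotC], ∀ y ∈ [rotA, rotB, rotC],
    x ^ i.val * y ^ j.val = y ^ j.val * x ^ i.val := by
  decide +kernel

theorem nine_outside : ∀ x : Model, ¬ InBase x → nine x = 1 →
    ∃ g ∈ [flipBC * blkSwap], nine (x * (g * x * g⁻¹)) ≠ 1 := by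
  decide +kernel



theorem power_in_base : ∀ x : Model, ¬ offD x →
    (InBase (x ^ 4) ∧ x ^ 4 ≠ 1) ∨ (InBase (x ^ 3) ∧ x ^ 3 ≠ 1) := by
  decide +kernel

/-- The number of conjugates of the standard elements of the base. -/
theorem base_classes : ∀ x : Model, InBase x → x ≠ 1 →
    (∃ g : Model, g * cubA * g⁻¹ = x) ∨ (∃ g : Model, g * cubB * g⁻¹ = x) ∨
      ∃ g : Model, g * (rotA * rotB * rotC) * g⁻¹ = x := by
  decide +kernel

theorem base_centralisers :
    (Finset.univ.filter fun x : Model => x * cubA = cubA * x).card = 108 ∧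
    (Finset.univ.filter fun x : Model => x * cubB = cubB * x).card = 54 ∧
    (Finset.univ.filter fun x : Model =>
      x * (rotA * rotB * rotC) = rotA * rotB * rotC * x).card = 81 := by
  decide +kernel

theorem kernel_conj :
    (∃ g : Model, g * rotA * g⁻¹ = rotB) ∧ (∃ g : Model, g * rotA * g⁻¹ = rotB⁻¹) ∧
    (∃ g : Model, g * rotA * g⁻¹ = rotA⁻¹) ∧ (∃ g : Model, g * rotA * g⁻¹ = rotC) ∧
    (∃ g : Model, g * cubB * g⁻¹ = rotA⁻¹ * rotB⁻¹) ∧
    (∃ g : Model, g * cubB * g⁻¹ = rotA * rotB⁻¹) ∧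
    (∃ g : Model, g * cubB * g⁻¹ = rotA⁻¹ * rotB) ∧
    (∃ g : Model, g * flipAB * g⁻¹ = flipBC) ∧ (∃ g : Model, g * flipAB * g⁻¹ = flipAC) ∧
    flipAB * flipBC = flipAC ∧ flipAB * flipBC = flipBC * flipAB := by
  decide +kernel

theorem inner_cover : ∀ x : Model, x.1.p = 0 →
    InBase x ∨ ∃ y ∈ setA, InBase (x * y⁻¹) := by
  decide +kernel

theorem outer_commutator : ∀ w : Model, w.1.p ≠ 0 →
    ∃ g ∈ [blkSwap, blkCyc], odd (g * w * g⁻¹ * w⁻¹).1.p = false ∧ (g * w * g⁻¹ * w⁻¹).1.p ≠ 0 := by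
  decide +kernel

theorem half_cover : ∀ w : Model, odd w.1.p = false → w.1.p ≠ 0 → ∀ c : Model,
    odd c.1.p = false → c.1.p = 0 ∨ (c * w⁻¹).1.p = 0 ∨ (c * (w * w)⁻¹).1.p = 0 := by
  have key : ∀ p q : Fin 6, odd p = false → p ≠ 0 → odd q = false → q = 0 ∨
      mulTab q (invTab p) = 0 ∨ mulTab q (invTab (mulTab p p)) = 0 := by decide +kernel
  intro w h1 h2 c h3
  exact key w.1.p c.1.p h1 h2 h3

theorem other_half : ∀ h : Model, odd h.1.p = true → odd (blkSwap * h).1.p = false := by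
  decide +kernel

theorem half_one : odd (1 : Model).1.p = false := by decide +kernel

end Cfsg.Lib.Recog.ThreeCubedFour
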