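import Cfsg.Agent.Lib.Recog.ThreeCubedFour.Model

/-!
# Sums of the class functions of `3^3 : S4`
-/

set_option autoImplicit false
set_option maxRecDepth 100000
set_option synthInstance.maxSize 2000
set_option synthInstance.maxHeartbeats 200000

namespace Cfsg.Lib.Recog.ThreeCubedFour

theorem vf_vanish : ∀ x : Model, offD x → ∀ k, vf k x = 0 := by decide +kernel

theorem vf_sum : ∀ k, ∑ x, vf k x = ((![0, 0, 648, 648, 0, 0] k : ℤ) : Zsqrtd 3) := by
  decide +kernel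

theorem vf_inner : ∀ k l, ∑ x, vf k x * vf l x = ((648 *
    ![![3, -1, 1, 1, 0, -1], ![-1, 3, 1, -1, -1, 1], ![1, 1, 4, 1, 0, 0],
      ![1, -1, 1, 4, 1, 0], ![0, -1, 0, 1, 2, 0], ![-1, 1, 0, 0, 0, 2]] k l : ℤ) : Zsqrtd 3) := by
  decide +kernel

theorem setA_card : setA.card = 27 ∧ setB.card = 54 := by decide +kernel

theorem vf_pairs :
    (∀ k, pairRow flipAB setA k = ((36 * ![0, 2, 2, 1, 0, 0] k : ℤ) : Zsqrtd 3)) ∧
    (∀ k, pairRow flipAB setB k = ((36 * ![0, 0, 2, 1, 0, 0] k : ℤ) : Zsqrtd 3)) ∧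
    (∀ k, pairRow blkSwap setB k = ((18 * ![2, 0, 4, 3, 0, 0] k : ℤ) : Zsqrtd 3)) := by
  decide +kernel

theorem vf_halves : ∑ x, (if odd x.1.p = false then vf 1 x else 0) = 0 ∧
    ∑ x, (if odd x.1.p = true then vf 1 x else 0) = 0 := by
  decide +kernel

end Cfsg.Lib.Recog.ThreeCubedFour
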