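import Cfsg.Agent.Lib.Recog.ThreeCubedFour.Monomial
import Cfsg.Agent.Lib.Recog.ThreeCubedFour.Tables
import Cfsg.Agent.Lib.Recog.ThreeCubedFour.Facts
import Cfsg.Agent.Lib.Char.Central

/-!
# Characters of degree two of `3^3 : S4`
-/

set_option autoImplicit false
set_option linter.unusedSectionVars false
set_option linter.style.haveILetI false
set_option maxRecDepth 100000
set_option synthInstance.maxSize 2000
set_option synthInstance.maxHeartbeats 200000

namespace Cfsg.Lib.Recog.ThreeCubedFour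

open Cfsg Cfsg.Lib.Char
open scoped ComplexConjugate

/-- Powers of a three-cycle. -/
def hom3 : Multiplicative (ZMod 3) →* Model :=
  MonoidHom.mk' (fun a => rotA ^ a.toAdd.val) (by decide +kernel)

/-- Powers of the double three-cycle. -/
def hom3' : Multiplicative (ZMod 3) →* Model :=
  MonoidHom.mk' (fun a => cubB ^ a.toAdd.val) (by decide +kernel)

/-- The group of the first two three-cycles. -/
def hom9 : Multiplicative (ZMod 3 × ZMod 3) →* Model :=
  MonoidHom.mk' (fun a => rotA ^ a.toAdd.1.val * rotB ^ a.toAdd.2.val) (by decide +kernel)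

/-- Powers of an involution. -/
def hom2 : Multiplicative (ZMod 2) →* Model :=
  MonoidHom.mk' (fun a => flipAB ^ a.toAdd.val) (by decide +kernel)

/-- The four-group of involutions inside the blocks. -/
def hom4 : Multiplicative (ZMod 2 × ZMod 2) →* Model :=
  MonoidHom.mk' (fun a => flipAB ^ a.toAdd.1.val * flipBC ^ a.toAdd.2.val) (by decide +kernel)

theorem avg_nat {A : Type} [Group A] [Fintype A] {ψ : Model → ℂ} (hψ : IsCharacter Model ψ)
    (f : A →* Model) : ∃ n : ℕ, ∑ a, ψ (f a) = (Fintype.card A : ℂ) * n := by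
  obtain ⟨n, hn⟩ := (hψ.comp f).exists_nat_classInner (isCharacter_one (G := A))
  rw [classInner_one_right, Nat.card_eq_fintype_card] at hn
  refine ⟨n, ?_⟩
  rw [← hn, ← mul_assoc, mul_inv_cancel₀ (Nat.cast_ne_zero.mpr Fintype.card_ne_zero), one_mul]

theorem three_value {ψ : Model → ℂ} (hψ : IsCharacter Model ψ) (h2 : ψ 1 = 2) {t : Model}
    (f : Multiplicative (ZMod 3) →* Model) (hf : ∑ a, ψ (f a) = ψ 1 + ψ t + ψ t⁻¹)
    (hinv : ψ t⁻¹ = ψ t) : ψ t = 2 ∨ ψ t = -1 := by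
  obtain ⟨k, hk⟩ := avg_nat hψ f
  rw [hf, hinv, h2, show Fintype.card (Multiplicative (ZMod 3)) = 3 from rfl] at hk
  have hrat : ψ t = (((3 * (k : ℚ) - 2) / 2 : ℚ) : ℂ) := by
    push_cast at hk ⊢
    linear_combination (1 / 2 : ℂ) * hk
  obtain ⟨m, hm⟩ := exists_int_of_isIntegral_rat (q := (3 * (k : ℚ) - 2) / 2)
    (hrat ▸ hψ.isIntegral t)
  rw [hm] at hrat
  push_cast at hrat
  have hb := hψ.norm_le t
  rw [h2, hrat, Complex.norm_intCast] at hb
  have hb' : |m| ≤ 2 := (Int.cast_le (R := ℝ)).mp (by push_cast; simpa using hb)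
  have he : 2 + 2 * m = 3 * (k : ℤ) := by
    have : ((2 + 2 * m : ℤ) : ℂ) = ((3 * (k : ℤ) : ℤ) : ℂ) := by
      push_cast at hk ⊢
      rw [← hrat]
      linear_combination hk
    exact_mod_cast this
  have hb2 := abs_le.mp hb'
  rcases (by omega : m = 2 ∨ m = -1) with rfl | rfl
  · exact Or.inl (by rw [hrat]; norm_num)
  · exact Or.inr (by rw [hrat]; norm_num)

theorem sum_hom3 (ψ : Model → ℂ) :
    ∑ a, ψ (hom3 a) = ψ 1 + ψ rotA + ψ rotA⁻¹ ∧ ∑ a, ψ (hom3' a) = ψ 1 + ψ cubB + ψ cubB⁻¹ := by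
  have e1 : hom3 (Multiplicative.ofAdd 0) = 1 ∧ hom3 (Multiplicative.ofAdd 1) = rotA ∧
      hom3 (Multiplicative.ofAdd 2) = rotA⁻¹ := by decide +kernel
  have e2 : hom3' (Multiplicative.ofAdd 0) = 1 ∧ hom3' (Multiplicative.ofAdd 1) = cubB ∧
      hom3' (Multiplicative.ofAdd 2) = cubB⁻¹ := by decide +kernel
  have hs : ∀ F : Multiplicative (ZMod 3) → ℂ, ∑ a, F a = F (Multiplicative.ofAdd 0) +
      F (Multiplicative.ofAdd 1) + F (Multiplicative.ofAdd 2) := fun F => by
    rw [← Multiplicative.ofAdd.sum_comp]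
    exact Fin.sum_univ_three _
  exact ⟨by rw [hs, e1.1, e1.2.1, e1.2.2], by rw [hs, e2.1, e2.2.1, e2.2.2]⟩

/-- A character of degree two is trivial on the block-preserving subgroup. -/
theorem apply_of_inner {ψ : Model → ℂ} (hψ : IsCharacter Model ψ) (h2 : ψ 1 = 2) {x : Model}
    (hx : x.1.p = 0) : ψ x = 2 := by
  have cl : ∀ {a b : Model}, (∃ g : Model, g * a * g⁻¹ = b) → ψ b = ψ a := fun {a b} ⟨g, hg⟩ => by
    rw [← hg]; exact hψ.isClassFunction a g
  obtain ⟨c1, c2, c3, c4, c5, c6, c7, c8, c9, hAC, -⟩ := kernel_conj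
  obtain ⟨s1, s2⟩ := sum_hom3 ψ
  have hxv := three_value hψ h2 hom3 s1 (cl c3)
  have hzv := three_value hψ h2 hom3' s2 (by
    refine cl ?_
    obtain ⟨g, hg⟩ := c5
    exact ⟨g, by rw [hg]; decide +kernel⟩)
  obtain ⟨n, hn⟩ := avg_nat hψ hom9
  have h9 : ∑ a, ψ (hom9 a) = ψ 1 + 4 * ψ rotA + 4 * ψ cubB := by
    rw [← Multiplicative.ofAdd.sum_comp, Fintype.sum_prod_type]
    have hs : ∀ F : ZMod 3 → ℂ, ∑ a, F a = F 0 + F 1 + F 2 := fun F => Fin.sum_univ_three _
    have e : ∀ i j : ZMod 3, hom9 (Multiplicative.ofAdd (i, j)) =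
        rotA ^ i.val * rotB ^ j.val := fun i j => rfl
    simp only [hs, e]
    have v : rotA ^ (0 : ZMod 3).val * rotB ^ (0 : ZMod 3).val = 1 ∧
        rotA ^ (0 : ZMod 3).val * rotB ^ (1 : ZMod 3).val = rotB ∧
        rotA ^ (0 : ZMod 3).val * rotB ^ (2 : ZMod 3).val = rotB⁻¹ ∧
        rotA ^ (1 : ZMod 3).val * rotB ^ (0 : ZMod 3).val = rotA ∧
        rotA ^ (1 : ZMod 3).val * rotB ^ (1 : ZMod 3).val = cubB ∧
        rotA ^ (1 : ZMod 3).val * rotB ^ (2 : ZMod 3).val = rotA * rotB⁻¹ ∧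
        rotA ^ (2 : ZMod 3).val * rotB ^ (0 : ZMod 3).val = rotA⁻¹ ∧
        rotA ^ (2 : ZMod 3).val * rotB ^ (1 : ZMod 3).val = rotA⁻¹ * rotB ∧
        rotA ^ (2 : ZMod 3).val * rotB ^ (2 : ZMod 3).val = rotA⁻¹ * rotB⁻¹ := by
      decide +kernel
    obtain ⟨v0, v1, v2, v3, v4, v5, v6, v7, v8⟩ := v
    simp only [v0, v1, v2, v3, v4, v5, v6, v7, v8, cl c1, cl c2, cl c3, cl c5, cl c6, cl c7]
    ring
  rw [h9, h2, show Fintype.card (Multiplicative (ZMod 3 × ZMod 3)) = 9 from rfl] at hn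
  have hA : ψ rotA = 2 := by
    rcases hxv with h | h
    · exact h
    exfalso
    rcases hzv with h' | h' <;> rw [h, h'] at hn
    · have : (9 : ℤ) * n = 6 := by
        have : ((9 * (n : ℤ) : ℤ) : ℂ) = ((6 : ℤ) : ℂ) := by
          push_cast; linear_combination -hn
        exact_mod_cast this
      omega
    · have : (9 : ℤ) * n = -6 := by
        have : ((9 * (n : ℤ) : ℤ) : ℂ) = ((-6 : ℤ) : ℂ) := by
          push_cast; linear_combination -hn
        exact_mod_cast this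
      omega
  -- the involution
  obtain ⟨k, hk⟩ := avg_nat hψ hom2
  have h2' : ∑ a, ψ (hom2 a) = ψ 1 + ψ flipAB := by
    rw [← Multiplicative.ofAdd.sum_comp]
    exact Fin.sum_univ_two _
  rw [h2', h2, show Fintype.card (Multiplicative (ZMod 2)) = 2 from rfl] at hk
  obtain ⟨m, hm⟩ := avg_nat hψ hom4
  have h4 : ∑ a, ψ (hom4 a) = ψ 1 + 3 * ψ flipAB := by
    rw [← Multiplicative.ofAdd.sum_comp, Fintype.sum_prod_type]
    have hs : ∀ F : ZMod 2 → ℂ, ∑ a, F a = F 0 + F 1 := fun F => Fin.sum_univ_two _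
    have e : ∀ i j : ZMod 2, hom4 (Multiplicative.ofAdd (i, j)) =
        flipAB ^ i.val * flipBC ^ j.val := fun i j => rfl
    simp only [hs, e]
    have v : flipAB ^ (0 : ZMod 2).val * flipBC ^ (0 : ZMod 2).val = 1 ∧
        flipAB ^ (0 : ZMod 2).val * flipBC ^ (1 : ZMod 2).val = flipBC ∧
        flipAB ^ (1 : ZMod 2).val * flipBC ^ (0 : ZMod 2).val = flipAB ∧
        flipAB ^ (1 : ZMod 2).val * flipBC ^ (1 : ZMod 2).val = flipAC := by
      decide +kernel
    obtain ⟨v0, v1, v2, v3⟩ := v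
    simp only [v0, v1, v2, v3, cl c8, cl c9]
    ring
  rw [h4, h2, show Fintype.card (Multiplicative (ZMod 2 × ZMod 2)) = 4 from rfl] at hm
  have hb := hψ.norm_le flipAB
  have hF : ψ flipAB = ((2 * (k : ℤ) - 2 : ℤ) : ℂ) := by push_cast; linear_combination hk
  rw [h2, hF, Complex.norm_intCast] at hb
  have hb' : |2 * (k : ℤ) - 2| ≤ 2 := (Int.cast_le (R := ℝ)).mp (by push_cast; simpa using hb)
  have hb2 := abs_le.mp hb'
  rw [hF] at hm
  have hm' : 2 + 3 * (2 * (k : ℤ) - 2) = 4 * (m : ℤ) := by exact_mod_cast hm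
  have hF2 : ψ flipAB = 2 := by
    rw [hF, show 2 * (k : ℤ) - 2 = 2 by omega]; norm_num
  -- assemble
  have hker : ∀ y, ψ y = 2 ↔ y ∈ charKer hψ := fun y => by rw [mem_charKer, h2]
  have hbase : ∀ y, InBase y → y ∈ charKer hψ := by
    intro y hy
    obtain ⟨i, j, l, rfl⟩ := (inBase_iff y).mp hy
    refine mul_mem (mul_mem (pow_mem ?_ _) (pow_mem ?_ _)) (pow_mem ?_ _) <;> rw [← hker]
    · exact hA
    · exact (cl c1).trans hA
    · exact (cl c4).trans hA
  rw [hker]
  rcases inner_cover x hx with h | ⟨y, hy, h⟩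
  · exact hbase x h
  · rw [show x = x * y⁻¹ * y by group]
    exact mul_mem (hbase _ h) ((hker y).mp ((cl (setA_conj y hy)).trans hF2))

/-- With one inner product given, the kernel is the block-preserving subgroup. -/
theorem eq_two_iff {ψ : Model → ℂ} (hψ : IsCharacter Model ψ) (h2 : ψ 1 = 2)
    (hQ : classInner (lift (vf 1)) ψ = 1) (x : Model) : ψ x = 2 ↔ x.1.p = 0 := by
  refine ⟨fun hx => ?_, apply_of_inner hψ h2⟩
  by_contra hp
  have hker : ∀ y, ψ y = 2 ↔ y ∈ charKer hψ := fun y => by rw [mem_charKer, h2]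
  haveI := charKer_normal hψ
  obtain ⟨g, -, hw1, hw2⟩ := outer_commutator x hp
  set w := g * x * g⁻¹ * x⁻¹ with hw
  have hwk : w ∈ charKer hψ :=
    mul_mem (Subgroup.Normal.conj_mem (charKer_normal hψ) _ ((hker x).mp hx) g)
      (inv_mem ((hker x).mp hx))
  have heven : ∀ c : Model, odd c.1.p = false → c ∈ charKer hψ := by
    intro c hc
    rcases half_cover w hw1 hw2 c hc with h | h | h
    · exact (hker c).mp (apply_of_inner hψ h2 h)
    · rw [show c = c * w⁻¹ * w by group]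
      exact mul_mem ((hker _).mp (apply_of_inner hψ h2 h)) hwk
    · rw [show c = c * (w * w)⁻¹ * (w * w) by group]
      exact mul_mem ((hker _).mp (apply_of_inner hψ h2 h)) (mul_mem hwk hwk)
  have hodd : ∀ c : Model, odd c.1.p = true → ψ c = ψ blkSwap := by
    intro c hc
    have h1 := heven _ (other_half c hc)
    rw [mem_charKer] at h1
    have h3 : ψ (blkSwap * c) = ψ (c * blkSwap) := by
      have := hψ.isClassFunction (c * blkSwap) blkSwap
      rw [← this]; congr 1; group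
    have hsq : blkSwap * blkSwap = (1 : Model) := (sets_sq _ (Or.inr sets_reps.2)).1
    have h4 : c * blkSwap ∈ charKer hψ := by rw [mem_charKer, ← h3, h1]
    calc ψ c = ψ (c * blkSwap * blkSwap) := by rw [mul_assoc, hsq, mul_one]
      _ = ψ blkSwap := hψ.apply_mul_of_mem_ker ((mem_charKer hψ).mp h4) _
  have hsum : ∑ y, lift (vf 1) y * conj (ψ y) = 0 := by
    have e : ∀ y, lift (vf 1) y * conj (ψ y) =
        2 * emb (if odd y.1.p = false then vf 1 y else 0) +
          conj (ψ blkSwap) * emb (if odd y.1.p = true then vf 1 y else 0) := by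
      intro y
      cases hy : odd y.1.p
      · rw [(hker y).mpr (heven y hy)]
        simp [lift, mul_comm, Complex.conj_ofNat]
      · rw [hodd y hy]
        simp [lift, mul_comm]
    simp only [e, Finset.sum_add_distrib, ← Finset.mul_sum, ← map_sum, vf_halves.1, vf_halves.2,
      map_zero, mul_zero, add_zero]
  rw [classInner, hsum, mul_zero] at hQ
  exact zero_ne_one hQ

end Cfsg.Lib.Recog.ThreeCubedFour
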