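import Cfsg.Agent.Lib.Recog.ThreeCubedFour.Setting
import Cfsg.Agent.Lib.Recog.ThreeCubedFour.Arith
import Cfsg.Agent.Lib.Recog.ThreeCubedFour.DegreeTwo
import Cfsg.Agent.Lib.Char.InvolutionSetSum

/-!
# A normal subgroup meeting `3^3 : S4` in `3^3 : V4`
-/

set_option autoImplicit false
set_option linter.unusedSectionVars false
set_option linter.style.haveILetI false
set_option maxRecDepth 100000
set_option synthInstance.maxSize 2000
set_option synthInstance.maxHeartbeats 200000

namespace Cfsg.Lib.Recog.ThreeCubedFour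

open Cfsg Cfsg.Lib.Char Matrix
open Cfsg.Lib.Recog.ThreeCubed (wsum)
open scoped ComplexConjugate

universe u

/-- The inner products with the trivial character. -/
def trivMult : Fin 6 → ℤ := ![0, 0, 1, 1, 0, 0]

/-- The inner products of the six vectors. -/
def gramFull : Fin 6 → Fin 6 → ℤ :=
  ![![3, -1, 1, 1, 0, -1], ![-1, 3, 1, -1, -1, 1], ![1, 1, 4, 1, 0, 0],
    ![1, -1, 1, 4, 1, 0], ![0, -1, 0, 1, 2, 0], ![-1, 1, 0, 0, 0, 2]]

theorem gram_shift : ∀ k l, gramFull k l - trivMult k * trivMult l = sG k l := by decide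

theorem trivMult_sum : ∀ k, sD k = -trivMult k := by decide

theorem offD_basic : ∀ x : Model, x * x = 1 → offD x := fun x h =>
  Or.inl (by rw [show (4 : ℕ) = 2 * 2 from rfl, pow_mul, pow_two x, h, one_pow])

theorem offD_inv : ∀ x : Model, offD x⁻¹ ↔ offD x := by decide +kernel

theorem power_four : ∀ x : Model, ¬ offD x → x ^ 12 = 1 → x ^ 4 ≠ 1 := by decide +kernel

/-- The two kinds of elements are told apart by their twelfth powers. -/
theorem power_match : ∀ x : Model, ¬ offD x →
    (x ^ 12 = 1 → InBase (x ^ 4)) ∧ (InBase (x ^ 4) → x ^ 12 = 1) ∧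
      (x ^ 12 ≠ 1 → InBase (x ^ 3)) := by
  decide +kernel

theorem offD_one : offD (1 : Model) := offD_basic 1 (one_mul 1)

theorem setB_conjInv (g x : Model) : g * x * g⁻¹ ∈ setB ↔ x ∈ setB := by
  have key : ∀ a b : Fin 6, mulTab (mulTab a b) (invTab a) = 0 ↔ b = 0 := by decide
  have hsq : g * x * g⁻¹ * (g * x * g⁻¹) = 1 ↔ x * x = 1 := by
    rw [show g * x * g⁻¹ * (g * x * g⁻¹) = g * (x * x) * g⁻¹ by group, mul_inv_eq_one, mul_eq_left]
  simp only [setB, Finset.mem_filter, Finset.mem_univ, true_and, hsq]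
  refine and_congr Iff.rfl (not_congr ?_)
  exact key g.1.p x.1.p

theorem setA_conjInv (g x : Model) : g * x * g⁻¹ ∈ setA ↔ x ∈ setA := by
  have key : ∀ a b : Fin 6, mulTab (mulTab a b) (invTab a) = 0 ↔ b = 0 := by decide
  have hsq : g * x * g⁻¹ * (g * x * g⁻¹) = 1 ↔ x * x = 1 := by
    rw [show g * x * g⁻¹ * (g * x * g⁻¹) = g * (x * x) * g⁻¹ by group, mul_inv_eq_one, mul_eq_left]
  have hne : g * x * g⁻¹ ≠ 1 ↔ x ≠ 1 := by rw [ne_eq, mul_inv_eq_one, mul_eq_left]
  simp only [setA, Finset.mem_filter, Finset.mem_univ, true_and, hsq, hne]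
  refine and_congr Iff.rfl (and_congr Iff.rfl ?_)
  exact key g.1.p x.1.p

/-- A sum over pairs seen from one of the first. -/
theorem pair_row {s t : Finset Model} (r : Model) (hs : ∀ x ∈ s, ∃ g : Model, g * r * g⁻¹ = x)
    (ht : ∀ g x : Model, g * x * g⁻¹ ∈ t ↔ x ∈ t) (k : Fin 6) :
    ∑ x ∈ s, ∑ y ∈ t, lift (vf k) (x * y) = (s.card : ℂ) * emb (pairRow r t k) := by
  have h : ∀ x ∈ s, ∑ y ∈ t, lift (vf k) (x * y) = emb (pairRow r t k) := by
    intro x hx
    obtain ⟨g, rfl⟩ := hs x hx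
    rw [pairRow, map_sum]
    refine Finset.sum_nbij' (fun y => g⁻¹ * y * g) (fun y => g * y * g⁻¹) ?_ ?_ ?_ ?_ ?_
    · intro y hy
      have h' := (ht g (g⁻¹ * y * g)).mp
      exact h' (by rwa [show g * (g⁻¹ * y * g) * g⁻¹ = y by group])
    · intro y hy; exact (ht g y).mpr hy
    · intro y _; simp [mul_assoc]
    · intro y _; simp [mul_assoc]
    · intro y _
      show lift (vf k) (g * r * g⁻¹ * y) = lift (vf k) (r * (g⁻¹ * y * g))
      rw [← (isGeneralized_vf k).isClassFunction (r * (g⁻¹ * y * g)) g]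
      congr 1
      group
  rw [Finset.sum_congr rfl h, Finset.sum_const, nsmul_eq_mul]

theorem pair_totals : ∀ k,
    (∑ x ∈ setA, ∑ y ∈ setA, lift (vf k) (x * y) = (972 : ℂ) * (sA k : ℂ)) ∧
    (∑ x ∈ setA, ∑ y ∈ setB, lift (vf k) (x * y) = (972 : ℂ) * (sB k : ℂ)) ∧
    (∑ x ∈ setB, ∑ y ∈ setB, lift (vf k) (x * y) = (972 : ℂ) * (sC k : ℂ)) := by
  intro k
  obtain ⟨p1, p2, p3⟩ := vf_pairs
  obtain ⟨cA, cB⟩ := setA_card
  refine ⟨?_, ?_, ?_⟩
  · rw [pair_row flipAB setA_conj setA_conjInv, cA, p1, emb_intCast,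
      show (![0, 2, 2, 1, 0, 0] k : ℤ) = sA k from rfl]
    push_cast; ring
  · rw [pair_row flipAB setA_conj setB_conjInv, cA, p2, emb_intCast,
      show (![0, 0, 2, 1, 0, 0] k : ℤ) = sB k from rfl]
    push_cast; ring
  · rw [pair_row blkSwap setB_conj setB_conjInv, cB, p3, emb_intCast,
      show (![2, 0, 4, 3, 0, 0] k : ℤ) = sC k from rfl]
    push_cast; ring

theorem conj_lift (F : Model → Zsqrtd 3) (x : Model) : conj (lift F x) = lift F x := conj_emb _

theorem inner_lift_one (k : Fin 6) :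
    classInner (lift (vf k)) (fun _ => (1 : ℂ)) = (trivMult k : ℂ) := by
  rw [classInner_one_right, Nat.card_eq_fintype_card, card_model]
  simp only [lift, ← map_sum, vf_sum, emb_intCast]
  have : ∀ k, (![0, 0, 648, 648, 0, 0] k : ℤ) = 648 * trivMult k := by decide
  rw [this]; push_cast; ring

theorem inner_lift (k l : Fin 6) :
    classInner (lift (vf k)) (lift (vf l)) = (gramFull k l : ℂ) := by
  simp only [classInner, conj_lift, Nat.card_eq_fintype_card, card_model]
  simp only [lift, ← map_mul, ← map_sum, vf_inner, emb_intCast]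
  push_cast
  unfold gramFull
  ring

variable {G : Type u} [Group G] [Finite G] (X : Setting G)

theorem Setting.inner_pull [Fintype X.H] (f f' : Model → ℂ) :
    classInner (fun h : X.H => f (X.φ h)) (fun h : X.H => f' (X.φ h)) = classInner f f' := by
  simp only [classInner]
  rw [Nat.card_congr X.φ.toEquiv, ← X.φ.toEquiv.sum_comp]
  rfl

set_option maxHeartbeats 1600000 in
/-- A normal subgroup meeting `H` in its block-preserving part. -/
theorem Setting.exists_normal (X : Setting G) :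
    ∃ M : Subgroup G, M.Normal ∧ ∀ x : Model, X.hom x ∈ M ↔ x.1.p = 0 := by
  classical
  haveI := Fintype.ofFinite G
  haveI : Fintype X.H := Fintype.ofFinite _
  set I : Fin 2 → Finset G :=
    ![Finset.univ.filter fun g => IsConj (X.hom flipAB) g,
      Finset.univ.filter fun g => IsConj (X.hom blkSwap) g] with hI
  set sets : Fin 2 → Finset Model := ![setA, setB] with hsets
  set rep : Fin 2 → Model := ![flipAB, blkSwap] with hrep
  have two : ∀ a : Fin 2, a = 0 ∨ a = 1 := by decide
  have hmemI : ∀ a g, g ∈ I a ↔ IsConj (X.hom (rep a)) g := by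
    intro a g
    rcases two a with rfl | rfl <;>
    · show g ∈ Finset.filter _ _ ↔ _
      rw [Finset.mem_filter]
      exact ⟨And.right, fun h => ⟨Finset.mem_univ _, h⟩⟩
  have hcl : ∀ a, ConjClosed (I a) := by
    intro a k g hg
    rw [hmemI] at hg ⊢
    exact hg.trans (isConj_iff.mpr ⟨k, rfl⟩)
  have hrepmem : ∀ a, rep a ∈ sets a := by
    intro a
    rcases two a with rfl | rfl
    · exact sets_reps.1
    · exact sets_reps.2
  have hrepfacts : ∀ a, rep a * rep a = 1 ∧ rep a ≠ 1 := by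
    intro a
    rcases two a with rfl | rfl
    · exact sets_sq _ (Or.inl sets_reps.1)
    · exact sets_sq _ (Or.inr sets_reps.2)
  have hinvol : ∀ a, ∀ g ∈ I a, g * g = 1 ∧ g ≠ 1 := by
    intro a g hg
    obtain ⟨k, rfl⟩ := isConj_iff.mp ((hmemI a g).mp hg)
    obtain ⟨h2, h1⟩ := hrepfacts a
    refine ⟨?_, fun e => ?_⟩
    · rw [show k * X.hom (rep a) * k⁻¹ * (k * X.hom (rep a) * k⁻¹) =
        k * (X.hom (rep a) * X.hom (rep a)) * k⁻¹ by group, ← map_mul, h2, map_one]
      group
    · rw [mul_inv_eq_one, mul_eq_left] at e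
      exact X.hom_ne_one h1 e
  have hmem : ∀ a, ∀ x : X.H, (x : G) ∈ I a ↔ X.φ x ∈ sets a := by
    have mk : ∀ a, ∀ x : X.H, X.φ x ∈ sets a → (x : G) ∈ I a := by
      intro a x hx
      obtain ⟨g, hg⟩ : ∃ g : Model, g * rep a * g⁻¹ = X.φ x := by
        rcases two a with rfl | rfl
        · exact setA_conj _ hx
        · exact setB_conj _ hx
      rw [hmemI, ← X.hom_φ x, ← hg]
      exact isConj_iff.mpr ⟨X.hom g, by rw [map_mul, map_mul, map_inv]⟩
    intro a x
    refine ⟨fun hx => ?_, mk a x⟩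
    have hcls : X.φ x ∈ setA ∨ X.φ x ∈ setB := by
      obtain ⟨h2, h1⟩ := hinvol a _ hx
      exact invol_cover _ (by rw [← map_mul, show x * x = 1 from Subtype.ext h2, map_one])
        (fun e => h1 (congrArg Subtype.val ((map_eq_one_iff X.φ X.φ.injective).mp e)))
    rcases two a with rfl | rfl
    · refine hcls.resolve_right fun h => X.not_conj ?_
      exact ((hmemI 0 _).mp hx).trans ((hmemI 1 _).mp (mk 1 x h)).symm
    · refine hcls.resolve_left fun h => X.not_conj ?_
      exact ((hmemI 0 _).mp (mk 0 x h)).trans ((hmemI 1 _).mp hx).symm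
  -- the pulled functions
  set F : Fin 6 → X.H → ℂ := fun k h => lift (vf k) (X.φ h) with hF
  have hgen : ∀ k, IsGeneralizedCharacter X.H (F k) := by
    intro k
    obtain ⟨a, b, ha, hb, e⟩ := isGeneralized_vf k
    exact ⟨_, _, ha.comp X.φ.toMonoidHom, hb.comp X.φ.toMonoidHom, funext fun h => by
      simp [hF, e]⟩
  have hvan : ∀ k, ∀ h : X.H, offD (X.φ h) → F k h = 0 := fun k h hh => by
    simp [hF, lift, vf_vanish _ hh k]
  have hone_van : ∀ k, F k 1 = 0 := fun k => hvan k 1 (by rw [map_one]; exact offD_one)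
  have hpow4 : ∀ {h : G} (g : G) (k : ℕ), (g * h * g⁻¹) ^ k = g * h ^ k * g⁻¹ := fun g k => conj_pow
  have hpower : ∀ h h' : X.H, ¬ offD (X.φ h) → ¬ offD (X.φ h') → ∀ g : G,
      g * (h : G) * g⁻¹ = h' → g ∈ X.H := by
    intro h h' hh hh' g hg
    have hk : ∀ k : ℕ, InBase ((X.φ h) ^ k) → (X.φ h) ^ k ≠ 1 →
        InBase ((X.φ h') ^ k) → g ∈ X.H := by
      intro k hb hb1 hb'
      refine X.mem_H_of_conj (u := (h : G) ^ k) ?_ ?_ ?_
      · rw [← Subgroup.coe_pow, X.mem_J, map_pow]; exact hb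
      · intro e
        exact hb1 (by rw [← map_pow, show h ^ k = 1 from Subtype.ext (by simpa using e), map_one])
      · rw [← hpow4, hg, ← Subgroup.coe_pow, X.mem_J, map_pow]; exact hb'
    have hiff : ∀ k : ℕ, (X.φ h) ^ k = 1 ↔ (X.φ h') ^ k = 1 := by
      intro k
      rw [← map_pow, ← map_pow, map_eq_one_iff _ X.φ.injective, map_eq_one_iff _ X.φ.injective,
        Subtype.ext_iff, Subtype.ext_iff, Subgroup.coe_pow, Subgroup.coe_pow, Subgroup.coe_one, ← hg,
        hpow4, mul_inv_eq_one, mul_eq_left]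
    obtain ⟨h12a, h12b, h9a⟩ := power_match (X.φ h) hh
    obtain ⟨h12', -, h9'⟩ := power_match (X.φ h') hh'
    rcases power_in_base _ hh with ⟨hb, hb1⟩ | ⟨hb, hb1⟩
    · exact hk 4 hb hb1 (h12' ((hiff 12).mp (h12b hb)))
    · by_cases h12 : (X.φ h) ^ 12 = 1
      · exact hk 4 (h12a h12) (power_four (X.φ h) hh h12) (h12' ((hiff 12).mp h12))
      · exact hk 3 hb hb1 (h9' ((hiff 12).not.mp h12))
  choose c hc using fun k => (fun χ : IrrCharacter G =>
    (isGeneralizedCharacter_indFun X.H (hgen k)).exists_int_classInner χ.2.isGeneralized)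
  set o : IrrCharacter G := ⟨_, isIrrCharacter_one⟩ with ho
  have hone : ∀ k, c k o = trivMult k := by
    intro k
    have h1 := hc k o
    rw [classInner_indFun X.H _ o.2.isClassFunction] at h1
    rw [show (fun x : X.H => (o : G → ℂ) x) = fun h : X.H => (fun _ : Model => (1 : ℂ)) (X.φ h)
      from rfl, hF, X.inner_pull (lift (vf k)) (fun _ => 1), inner_lift_one] at h1
    exact_mod_cast h1.symm
  have hdot : ∀ k l, c k ⬝ᵥ c l = gramFull k l := by
    intro k l
    have hT : ∀ j, ∀ y : X.H, (y : G) ∉ {t : G | ∃ h : X.H, (h : G) = t ∧ ¬ offD (X.φ h)} →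
        F j y = 0 := fun j y hy => hvan j y (by_contra fun h => hy ⟨y, rfl, h⟩)
    have h1 := classInner_indFun_TI X.H {t : G | ∃ h : X.H, (h : G) = t ∧ ¬ offD (X.φ h)}
      (by
        rintro x hx _ ⟨t, rfl, ht⟩ - ⟨t', ht', ht''⟩
        exact hx (hpower t t' ht ht'' x ht'.symm))
      (hgen l).isClassFunction (hT k) (hT l) (hone_van k)
    rw [hF, X.inner_pull (lift (vf k)) (lift (vf l)), inner_lift,
      classInner_eq_sum (isClassFunction_indFun X.H _)] at h1
    simp only [hF] at hc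
    simp only [hc, map_intCast] at h1
    refine Int.cast_inj (α := ℂ) |>.mp ?_
    rw [← h1]
    simp [dotProduct]
  choose deg hdegpos hdeg using fun χ : IrrCharacter G => χ.2.exists_degree
  let wd : IrrCharacter G → ℂ := fun χ => (χ : G → ℂ) 1
  let wS : Fin 2 → IrrCharacter G → ℂ := fun a χ => ∑ x ∈ I a, (χ : G → ℂ) x
  have hwd : ∀ χ, wd χ ≠ 0 := fun χ => χ.2.apply_one_ne_zero
  have hw : ∀ k (w : IrrCharacter G → ℂ), wsum (c k) w =
      ∑ χ : IrrCharacter G, classInner (indFun X.H (F k)) (χ : G → ℂ) * w χ := by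
    intro k w
    simp [wsum, hc]
  have hdeg0 : ∀ k, wsum (c k) wd = 0 := by
    intro k
    rw [hw k wd]
    have := congrFun (eq_sum_classInner (isClassFunction_indFun X.H (F k))) 1
    simp only [Finset.sum_apply, Pi.smul_apply, smul_eq_mul] at this
    rw [← this, indFun_apply_one, hone_van, mul_zero]
  have hS0 : ∀ k a, wsum (c k) (wS a) = 0 := by
    intro k a
    rw [hw k, ← sum_finset_classInner_eq (I a) (isClassFunction_indFun X.H _)]
    refine Finset.sum_eq_zero fun x hx => indFun_invol_eq_zero X.H (fun h hh => hvan k h ?_)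
      (hinvol a x hx).1
    exact offD_basic _ (by rw [← map_mul, show h * h = 1 from Subtype.ext hh, map_one])
  have hQ : ∀ k a b, wsum (c k) (fun χ => wS a χ * wS b χ / wd χ) =
      (X.H.index : ℂ) * ∑ x ∈ sets a, ∑ y ∈ sets b, lift (vf k) (x * y) := by
    intro k a b
    rw [hw k, ← sum_conjClosed_pair_eq (hcl b) (isClassFunction_indFun X.H _),
      sum_pair_indFun_local X.H (hcl a) (hcl b) (fun x hx y hy h hxy hne => ?_)]
    · congr 1
      refine Finset.sum_equiv X.φ.toEquiv (fun x => by simpa using hmem a x) fun x _ => ?_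
      refine Finset.sum_equiv X.φ.toEquiv (fun y => by simpa using hmem b y) fun y _ => ?_
      simp [hF]
    · refine hpower h h⁻¹ (fun e => hne (hvan k h e))
        (fun e => hne (hvan k h ((offD_inv _).mp (by rwa [map_inv] at e)))) x ?_
      have hinv : x * (h : G) * x⁻¹ = (h : G)⁻¹ := by
        rw [← hxy, _root_.mul_inv_rev, inv_eq_of_mul_eq_one_right (hinvol a x hx).1,
          inv_eq_of_mul_eq_one_right (hinvol b y hy).1, ← mul_assoc, (hinvol a x hx).1, one_mul]
      exact hinv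
  -- the data
  let v : Fin 6 → IrrCharacter G → ℤ := fun k => c k - Pi.single o (trivMult k)
  have wsv : ∀ k w, wsum (v k) w = wsum (c k) w - (trivMult k : ℂ) * w o := by
    intro k w
    simp [v, wsum, sub_mul, Finset.sum_sub_distrib, Pi.single_apply]
  have wdo : wd o = 1 := by simp [wd, ho]
  have dego : deg o = 1 := by
    have := hdeg o
    simp only [ho] at this
    exact_mod_cast this.symm
  have hcdd : ∀ k, c k ⬝ᵥ (fun χ => (deg χ : ℤ)) = 0 := by
    intro k
    refine Int.cast_inj (α := ℂ) |>.mp ?_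
    rw [Int.cast_zero, ← hdeg0 k]
    simp [wsum, dotProduct, wd, hdeg]
  set pa : Fin 2 → IrrCharacter G → ℂ := fun a χ => wS a χ / wd χ - wS a o with hpa
  have hcast : ∀ χ : IrrCharacter G, (((deg χ : ℤ)) : ℂ) = wd χ := fun χ => by simp [wd, hdeg]
  have e1 : ∀ k (r : ℂ) (f : IrrCharacter G → ℂ),
      ∑ χ, (c k χ : ℂ) * (r * f χ) = r * wsum (c k) f := by
    intro k r f
    simp only [wsum, Finset.mul_sum]
    exact Finset.sum_congr rfl fun χ _ => mul_left_comm _ _ _
  have hva : ∀ k a, wsum (v k) (fun χ => ((deg χ : ℤ) : ℂ) * pa a χ) = 0 := by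
    intro k a
    have e : (fun χ => ((deg χ : ℤ) : ℂ) * pa a χ) = fun χ => wS a χ - wS a o * wd χ := by
      funext χ
      rw [hcast, hpa]
      field_simp [hwd χ]
    rw [e, wsv, wdo]
    simp only [wsum, mul_sub, Finset.sum_sub_distrib]
    rw [e1, hdeg0]
    have := hS0 k a
    simp only [wsum] at this
    rw [this]
    ring
  have hvab : ∀ k a b, wsum (v k) (fun χ => ((deg χ : ℤ) : ℂ) * pa a χ * pa b χ) =
      (X.H.index : ℂ) * ∑ x ∈ sets a, ∑ y ∈ sets b, lift (vf k) (x * y) := by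
    intro k a b
    have e : (fun χ => ((deg χ : ℤ) : ℂ) * pa a χ * pa b χ) = fun χ => wS a χ * wS b χ / wd χ -
        wS b o * wS a χ - wS a o * wS b χ + wS a o * wS b o * wd χ := by
      funext χ
      rw [hcast, hpa]
      field_simp [hwd χ]
      ring
    rw [e, wsv, wdo, ← hQ k a b]
    simp only [wsum, mul_sub, mul_add, Finset.sum_sub_distrib, Finset.sum_add_distrib]
    rw [e1, e1, e1, hS0, hS0, hdeg0]
    ring
  let D : SixData (IrrCharacter G) :=
    { d := fun χ => (deg χ : ℤ)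
      v := v
      a := pa 0
      b := pa 1
      R := (X.H.index : ℂ) * 972
      R_ne := mul_ne_zero (Nat.cast_ne_zero.mpr Subgroup.FiniteIndex.index_ne_zero) (by norm_num)
      d_pos := fun χ => by exact_mod_cast hdegpos χ
      dot := fun k l => by
        rw [← gram_shift k l, ← hdot k l]
        simp only [v, sub_dotProduct, dotProduct_sub, single_dotProduct, dotProduct_single,
          Pi.sub_apply, Pi.single_eq_same, hone]
        ring
      v_d := fun k => by
        rw [trivMult_sum]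
        simp only [v, sub_dotProduct, single_dotProduct, hcdd, dego]
        simp
      v_a := fun k => hva k 0
      v_b := fun k => hva k 1
      v_aa := fun k => by
        rw [hvab k 0 0, show sets 0 = setA from rfl, (pair_totals k).1]; ring
      v_ab := fun k => by
        rw [hvab k 0 1, show sets 0 = setA from rfl, show sets 1 = setB from rfl, (pair_totals k).2.1]
        ring
      v_bb := fun k => by
        rw [hvab k 1 1, show sets 1 = setB from rfl, (pair_totals k).2.2]; ring }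
  obtain ⟨χ, hd2, hv1⟩ := D.exists_degree_two
  have hd2' : (χ : G → ℂ) 1 = 2 := by
    rw [hdeg]
    have hd2'' : (deg χ : ℤ) = 2 := hd2
    exact_mod_cast hd2''
  have hc1 : c 1 χ = 1 := by
    have : v 1 χ = 1 := hv1
    simpa [v, trivMult] using this
  set ψ : Model → ℂ := fun x => (χ : G → ℂ) (X.hom x) with hψ
  have hψc : IsCharacter Model ψ := χ.2.isCharacter.comp X.hom
  have hψ1 : ψ 1 = 2 := by simp [hψ, hd2']
  have hQ1 : classInner (lift (vf 1)) ψ = 1 := by
    have h1 := hc 1 χ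
    rw [classInner_indFun X.H _ χ.2.isClassFunction, hc1] at h1
    rw [show (fun x : X.H => (χ : G → ℂ) x) = fun h : X.H => ψ (X.φ h) by
      funext h; simp [hψ, X.hom_φ]] at h1
    rw [hF, X.inner_pull (lift (vf 1)) ψ] at h1
    rw [h1]
    simp
  refine ⟨charKer χ.2.isCharacter, charKer_normal _, fun x => ?_⟩
  rw [mem_charKer, hd2']
  exact eq_two_iff hψc hψ1 hQ1 x

end Cfsg.Lib.Recog.ThreeCubedFour
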