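import Cfsg.Agent.Lib.Recog.ThreeCubedFour.Setting

/-!
# The two permutation groups attached to the block model
-/

set_option autoImplicit false
set_option maxRecDepth 100000
set_option synthInstance.maxSize 2000
set_option synthInstance.maxHeartbeats 200000

namespace Cfsg.Lib.Recog.ThreeCubedFour

open Equiv

/-- The subgroup fixing every block. -/
def blockStab : Subgroup Model where
  carrier := {x | x.1.p = 0}
  one_mem' := rfl
  mul_mem' := fun {x y} hx hy => by
    show mulTab x.1.p y.1.p = 0
    rw [show x.1.p = 0 from hx, show y.1.p = 0 from hy]; rfl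
  inv_mem' := fun {x} hx => by
    show invTab x.1.p = 0
    rw [show x.1.p = 0 from hx]; rfl

/-- The generators of the whole group. -/
theorem range_modelPerm : modelPerm.range = Subgroup.closure
    ({swap (0 : Fin 9) 1 * swap 1 2,
      swap (0 : Fin 9) 3 * swap 3 6 * (swap (1 : Fin 9) 4 * swap 4 7) *
        (swap (2 : Fin 9) 5 * swap 5 8),
      swap (0 : Fin 9) 1 * swap 3 4,
      swap (0 : Fin 9) 3 * swap 1 4 * swap 2 5 * swap 6 7} : Set (Perm (Fin 9))) := by
  obtain ⟨eA, -, -, eK, eF, -, eS⟩ := modelPerm_gens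
  obtain ⟨cB, cC, cF, -⟩ := gens_conj
  rw [← eA, ← eK, ← eF, ← eS]
  set S : Set (Perm (Fin 9)) := {modelPerm rotA, modelPerm blkCyc, modelPerm flipAB, modelPerm blkSwap}
    with hS
  refine le_antisymm ?_ ?_
  · rintro _ ⟨x, rfl⟩
    let C := (Subgroup.closure S).comap modelPerm
    show x ∈ C
    have mem : ∀ y, modelPerm y ∈ S → y ∈ C := fun y hy => Subgroup.subset_closure hy
    have hA : rotA ∈ C := mem _ (by simp [hS])
    have hK : blkCyc ∈ C := mem _ (by simp [hS])
    have hF : flipAB ∈ C := mem _ (by simp [hS])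
    have hW : blkSwap ∈ C := mem _ (by simp [hS])
    have hB : rotB ∈ C := by
      rw [cB]; exact mul_mem (mul_mem hK hA) (inv_mem hK)
    have hC : rotC ∈ C := by
      rw [cC]; exact mul_mem (mul_mem hK hB) (inv_mem hK)
    have hG : flipBC ∈ C := by
      rw [cF]; exact mul_mem (mul_mem hK hF) (inv_mem hK)
    obtain ⟨e, hi⟩ := decompose_outer x
    rw [e, decompose_inner _ hi]
    exact mul_mem (mul_mem (mul_mem (mul_mem (pow_mem hA _) (pow_mem hB _)) (pow_mem hC _))
      (mul_mem (pow_mem hF _) (pow_mem hG _))) (mul_mem (pow_mem hK _) (pow_mem hW _))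
  · rw [Subgroup.closure_le]
    intro y hy
    simp only [hS, Set.mem_insert_iff, Set.mem_singleton_iff] at hy
    rcases hy with rfl | rfl | rfl | rfl <;> exact ⟨_, rfl⟩

/-- The generators of the part fixing every block. -/
theorem map_blockStab : blockStab.map modelPerm = Subgroup.closure
    ({swap (0 : Fin 9) 1 * swap 1 2, swap (3 : Fin 9) 4 * swap 4 5, swap (6 : Fin 9) 7 * swap 7 8,
      swap (0 : Fin 9) 1 * swap 3 4, swap (0 : Fin 9) 1 * swap 6 7} : Set (Perm (Fin 9))) := by
  obtain ⟨eA, eB, eC, -, eF, eH, -⟩ := modelPerm_gens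
  obtain ⟨-, -, -, cF⟩ := gens_conj
  rw [← eA, ← eB, ← eC, ← eF, ← eH]
  set S : Set (Perm (Fin 9)) :=
    {modelPerm rotA, modelPerm rotB, modelPerm rotC, modelPerm flipAB, modelPerm flipAC} with hS
  refine le_antisymm ?_ ?_
  · rintro _ ⟨x, hx, rfl⟩
    let C := (Subgroup.closure S).comap modelPerm
    show x ∈ C
    have mem : ∀ y, modelPerm y ∈ S → y ∈ C := fun y hy => Subgroup.subset_closure hy
    have hA : rotA ∈ C := mem _ (by simp [hS])
    have hB : rotB ∈ C := mem _ (by simp [hS])
    have hC : rotC ∈ C := mem _ (by simp [hS])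
    have hF : flipAB ∈ C := mem _ (by simp [hS])
    have hH : flipAC ∈ C := mem _ (by simp [hS])
    have hG : flipBC ∈ C := by
      rw [cF]; exact mul_mem hF hH
    rw [decompose_inner x hx]
    exact mul_mem (mul_mem (mul_mem (pow_mem hA _) (pow_mem hB _)) (pow_mem hC _))
      (mul_mem (pow_mem hF _) (pow_mem hG _))
  · rw [Subgroup.closure_le]
    intro y hy
    simp only [hS, Set.mem_insert_iff, Set.mem_singleton_iff] at hy
    rcases hy with rfl | rfl | rfl | rfl | rfl <;> exact ⟨_, rfl, rfl⟩

theorem card_inBase : (Finset.univ.filter fun x : Model => InBase x).card = 27 := by decide +kernel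

end Cfsg.Lib.Recog.ThreeCubedFour
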