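import Cfsg.Agent.Lib.Recog.ThreeCubedFour.Wreath

/-!
# Class functions of `3^3 : S4` with values in `ℤ[√3]`
-/

set_option autoImplicit false
set_option maxRecDepth 100000
set_option synthInstance.maxSize 2000
set_option synthInstance.maxHeartbeats 200000

namespace Cfsg.Lib.Recog.ThreeCubedFour

open Equiv

/-- The stabiliser character inducing to degree six. -/
def phaseSix (flag : Bool) (x : Model) : Option (Fin 12) :=
  if tab x.1.p 0 = 0 ∧ odd x.1.a = false then
    let k : ℕ := if x.1.p = 0 then (if odd x.1.b then 2 else 0) else (if odd x.1.b then 3 else 1)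
    some ⟨(4 * (rotOf x.1.a).val + 3 * (if flag then 3 * k else k)) % 12, Nat.mod_lt _ (by norm_num)⟩
  else none

/-- The stabiliser character inducing to degree twelve. -/
def phaseTwelve (x : Model) : Option (Fin 12) :=
  if tab x.1.p 2 = 2 ∧ odd x.1.a = false ∧ odd x.1.b = false then
    some ⟨(4 * ((rotOf x.1.a).val + (rotOf x.1.b).val)) % 12, Nat.mod_lt _ (by norm_num)⟩
  else none

/-- The stabiliser characters inducing to degree eight. -/
def phaseEight (flag : Bool) (x : Model) : Option (Fin 12) :=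
  if odd x.1.p = false ∧ odd x.1.a = false ∧ odd x.1.b = false then
    let k : ℕ := (rotOf x.1.p).val
    some ⟨(4 * ((rotOf x.1.a).val + (rotOf x.1.b).val + (rotOf x.1.c).val +
      (if flag then 2 * k else k))) % 12, Nat.mod_lt _ (by norm_num)⟩
  else none

/-- Addition of phases. -/
def addPhase : Option (Fin 12) → Option (Fin 12) → Option (Fin 12)
  | some a, some b => some (a + b)
  | _, _ => none

/-- Coset representatives, six of them. -/
def repSix (i : Fin 6) : Model := blkCyc ^ (i.val / 2) * flipAB ^ (i.val % 2)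

/-- Coset representatives, twelve of them. -/
def repTwelve (i : Fin 12) : Model :=
  blkCyc ^ (i.val / 4) * flipAC ^ (i.val % 2) * flipBC ^ (i.val / 2 % 2)

/-- Coset representatives, eight of them. -/
def repEight (i : Fin 8) : Model :=
  (if i.val / 4 = 1 then blkSwap else 1) * flipAB ^ (i.val % 2) * flipBC ^ (i.val / 2 % 2)

/-- Twice the real part of a power of a twelfth root of unity. -/
def reTab : Fin 12 → Zsqrtd 3 :=
  ![⟨2, 0⟩, ⟨0, 1⟩, ⟨1, 0⟩, ⟨0, 0⟩, ⟨-1, 0⟩, ⟨0, -1⟩, ⟨-2, 0⟩, ⟨0, -1⟩, ⟨-1, 0⟩, ⟨0, 0⟩, ⟨1, 0⟩,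
    ⟨0, 1⟩]

/-- Twice the imaginary part. -/
def imTab : Fin 12 → Zsqrtd 3 :=
  ![⟨0, 0⟩, ⟨1, 0⟩, ⟨0, 1⟩, ⟨2, 0⟩, ⟨0, 1⟩, ⟨1, 0⟩, ⟨0, 0⟩, ⟨-1, 0⟩, ⟨0, -1⟩, ⟨-2, 0⟩, ⟨0, -1⟩,
    ⟨-1, 0⟩]

/-- A monomial sum. -/
def monSum {n : ℕ} (ph : Model → Option (Fin 12)) (R : Fin n → Model) (t : Fin 12 → Zsqrtd 3)
    (x : Model) : Zsqrtd 3 :=
  ∑ i, (ph ((R i)⁻¹ * x * R i)).elim 0 t

/-- Half. -/
def halve (z : Zsqrtd 3) : Zsqrtd 3 := ⟨z.re / 2, z.im / 2⟩

/-- The first character of degree six. -/
def chSix (flag : Bool) (x : Model) : Zsqrtd 3 := halve (monSum (phaseSix flag) repSix reTab x)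

/-- The character of degree twelve. -/
def chTwelve (x : Model) : Zsqrtd 3 := halve (monSum phaseTwelve repTwelve reTab x)

/-- The characters of degree eight. -/
def chEight (flag : Bool) (x : Model) : Zsqrtd 3 :=
  halve (monSum (phaseEight flag) repEight reTab x)

/-- The sign on blocks. -/
def blkSign (x : Model) : ℤ := if odd x.1.p then -1 else 1

/-- The fixed blocks. -/
def fixBlocks (x : Model) : ℤ := ((Finset.univ.filter fun j => tab x.1.p j = j).card : ℤ)

/-- The fixed points. -/
def fixPoints (x : Model) : ℤ := ((Finset.univ.filter fun i => x.1.act i = i).card : ℤ)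

/-- The signed fixed blocks. -/
def signedBlocks (x : Model) : ℤ :=
  ∑ j, if tab x.1.p j = j then (if odd (x.1.comp j) then -1 else 1) else 0

/-- The six vectors. -/
def vf : Fin 6 → Model → Zsqrtd 3 :=
  ![fun x => (signedBlocks x : Zsqrtd 3) + (blkSign x * signedBlocks x : ℤ) - chSix false x,
    fun x => ((fixBlocks x - 1 : ℤ) : Zsqrtd 3) + chSix false x - chEight false x,
    fun x => ((1 + (fixBlocks x - 1) + signedBlocks x - (fixPoints x - fixBlocks x) : ℤ) : Zsqrtd 3),
    fun x => ((1 + blkSign x * signedBlocks x : ℤ) : Zsqrtd 3) - chTwelve x + chEight false x,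
    fun x => chEight false x - chEight true x,
    fun x => chSix false x - chSix true x]

/-- The elements outside the set on which the vectors live. -/
def offD (x : Model) : Prop := x ^ 4 = 1 ∨ (x ^ 3 = 1 ∧ x.1.p ≠ 0)

instance offDDec : DecidablePred offD := fun x =>
  inferInstanceAs (Decidable (x ^ 4 = 1 ∨ (x ^ 3 = 1 ∧ x.1.p ≠ 0)))

/-- The normal subgroup of order 27, as a predicate. -/
def InBase (x : Model) : Prop :=
  x.1.p = 0 ∧ odd x.1.a = false ∧ odd x.1.b = false ∧ odd x.1.c = false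

instance inBaseDec : DecidablePred InBase := fun x =>
  inferInstanceAs (Decidable (x.1.p = 0 ∧ odd x.1.a = false ∧ odd x.1.b = false ∧ odd x.1.c = false))

/-- The involutions inside the blocks. -/
def setA : Finset Model := Finset.univ.filter fun x => x * x = 1 ∧ x ≠ 1 ∧ x.1.p = 0

/-- The involutions moving blocks. -/
def setB : Finset Model := Finset.univ.filter fun x => x * x = 1 ∧ x.1.p ≠ 0

/-- The sum over pairs of involutions, seen from one of the first. -/
def pairRow (x : Model) (t : Finset Model) (k : Fin 6) : Zsqrtd 3 := ∑ y ∈ t, vf k (x * y)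

end Cfsg.Lib.Recog.ThreeCubedFour
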