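import Cfsg.Agent.Lib.Recog.ThreeCubedFour.PhaseTables
import Cfsg.Agent.Lib.Char.InvolutionSum
import Cfsg.Agent.Lib.Char.Induced
import Cfsg.Agent.Lib.Char.Linear

/-!
# The class functions of `3^3 : S4` are generalized characters
-/

set_option autoImplicit false
set_option linter.unusedSectionVars false
set_option linter.style.haveILetI false
set_option maxRecDepth 100000
set_option synthInstance.maxSize 2000
set_option synthInstance.maxHeartbeats 200000

namespace Cfsg.Lib.Recog.ThreeCubedFour

open Cfsg Cfsg.Lib.Char Equiv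
open scoped ComplexConjugate

theorem sqrt_three_sq : ((Real.sqrt 3 : ℝ) : ℂ) * ((Real.sqrt 3 : ℝ) : ℂ) = ((3 : ℤ) : ℂ) := by
  rw [← Complex.ofReal_mul, Real.mul_self_sqrt (by norm_num)]
  norm_num

/-- The real embedding of `ℤ[√3]`. -/
noncomputable def emb : Zsqrtd 3 →+* ℂ := Zsqrtd.lift ⟨((Real.sqrt 3 : ℝ) : ℂ), sqrt_three_sq⟩

theorem emb_apply (z : Zsqrtd 3) : emb z = (z.re : ℂ) + (z.im : ℂ) * ((Real.sqrt 3 : ℝ) : ℂ) := rfl

theorem emb_intCast (n : ℤ) : emb (n : Zsqrtd 3) = (n : ℂ) := map_intCast emb n

theorem conj_emb (z : Zsqrtd 3) : conj (emb z) = emb z := by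
  simp [emb_apply, Complex.conj_ofReal]

/-- A twelfth root of unity. -/
noncomputable def zeta : ℂ := ((Real.sqrt 3 : ℝ) : ℂ) / 2 + Complex.I / 2

theorem zeta_three : zeta ^ 3 = Complex.I := by
  have h := sqrt_three_sq
  push_cast at h
  have hI : Complex.I * Complex.I = -1 := Complex.I_mul_I
  unfold zeta
  linear_combination (((Real.sqrt 3 : ℝ) : ℂ) / 8 + 3 * Complex.I / 8) * h +
    (3 * ((Real.sqrt 3 : ℝ) : ℂ) / 8 + Complex.I / 8) * hI

theorem zeta_twelve : zeta ^ 12 = 1 := by
  rw [show (12 : ℕ) = 3 * 4 from rfl, pow_mul, zeta_three, Complex.I_pow_four]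

theorem two_zeta_pow (k : Fin 12) :
    2 * zeta ^ (k : ℕ) = emb (reTab k) + Complex.I * emb (imTab k) := by
  have h := sqrt_three_sq
  push_cast at h
  have hI : Complex.I * Complex.I = -1 := Complex.I_mul_I
  have h2 : zeta ^ 2 = 1 / 2 + ((Real.sqrt 3 : ℝ) : ℂ) / 2 * Complex.I := by
    unfold zeta
    linear_combination (1 / 4 : ℂ) * h + (1 / 4 : ℂ) * hI
  have e : zeta ^ (k : ℕ) = (zeta ^ 3) ^ ((k : ℕ) / 3) * zeta ^ ((k : ℕ) % 3) := by
    rw [← pow_mul, ← pow_add, Nat.div_add_mod]
  rw [e, zeta_three]
  have hI2 : Complex.I ^ 2 = -1 := Complex.I_sq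
  have hI3 : Complex.I ^ 3 = -Complex.I := by rw [pow_succ, hI2]; ring
  have h' : ((Real.sqrt 3 : ℝ) : ℂ) ^ 2 = 3 := by rw [pow_two, h]
  fin_cases k <;> simp [reTab, imTab, emb_apply, h2, hI2, hI3, zeta] <;>
    ring_nf <;> simp [hI2, hI3, h'] <;> ring

/-- A unit version. -/
noncomputable def zetaUnit : ℂˣ := Units.mk0 zeta fun h => by
  have := zeta_twelve
  rw [h, zero_pow (by norm_num)] at this
  exact zero_ne_one this

theorem zetaUnit_add (a b : Fin 12) :
    zetaUnit ^ ((a + b : Fin 12) : ℕ) = zetaUnit ^ (a : ℕ) * zetaUnit ^ (b : ℕ) := by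
  have h : zetaUnit ^ 12 = 1 := Units.ext (by simpa [zetaUnit] using zeta_twelve)
  rw [← pow_add, Fin.val_add, ← pow_eq_pow_mod _ h]

theorem isCharacter_monomial {n : ℕ} {ph : Model → Option (Fin 12)} {R : Fin n → Model}
    (h : PhaseOK ph R) :
    IsCharacter Model (fun x => ∑ i, (ph ((R i)⁻¹ * x * R i)).elim (0 : ℂ) (fun k => zeta ^ (k : ℕ))) := by
  classical
  have hmul : ∀ x y, (ph x).isSome → (ph y).isSome → ph (x * y) = addPhase (ph x) (ph y) :=
    fun x y hx hy => h.mul x (by simpa using hx) y (by simpa using hy)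
  let L : Subgroup Model :=
    { carrier := {x | (ph x).isSome}
      one_mem' := by simp [h.one]
      mul_mem' := fun {x y} hx hy => by
        have hx' : (ph x).isSome := hx
        have hy' : (ph y).isSome := hy
        obtain ⟨a, ha⟩ := Option.isSome_iff_exists.mp hx'
        obtain ⟨b, hb⟩ := Option.isSome_iff_exists.mp hy'
        show (ph (x * y)).isSome
        rw [hmul x y hx' hy', ha, hb]; rfl
      inv_mem' := fun {x} hx => h.inv x hx }
  have hL : Nat.card L = (Finset.univ.filter fun x => (ph x).isSome).card := by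
    rw [← Fintype.card_subtype, ← Nat.card_eq_fintype_card]
    exact Nat.card_congr
      { toFun := fun l => ⟨l.1, l.2⟩
        invFun := fun l => ⟨l.1, l.2⟩
        left_inv := fun _ => rfl
        right_inv := fun _ => rfl }
  haveI : Fintype L := Fintype.ofFinite _
  have hbij : Function.Bijective (fun q : Fin n × L => R q.1 * (q.2 : Model)) := by
    rw [Fintype.bijective_iff_surjective_and_card]
    refine ⟨fun y => ?_, ?_⟩
    · obtain ⟨i, hi⟩ := h.cover y
      refine ⟨(i, ⟨(R i)⁻¹ * y, hi⟩), ?_⟩
      show R i * ((R i)⁻¹ * y) = y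
      rw [mul_inv_cancel_left]
    · rw [Fintype.card_prod, Fintype.card_fin, card_model, ← Nat.card_eq_fintype_card, hL, h.card]
  let ψ : L →* ℂˣ :=
    { toFun := fun l => zetaUnit ^ (((ph l).getD 0 : Fin 12) : ℕ)
      map_one' := by simp [h.one]
      map_mul' := fun l m => by
        obtain ⟨a, ha⟩ := Option.isSome_iff_exists.mp (show (ph l).isSome from l.2)
        obtain ⟨b, hb⟩ := Option.isSome_iff_exists.mp (show (ph m).isSome from m.2)
        rw [Subgroup.coe_mul, hmul l m (by simp [ha]) (by simp [hb]), ha, hb]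
        exact zetaUnit_add a b }
  have hchar := isCharacter_indFun L (isIrrCharacter_linear ψ).isCharacter
  convert hchar using 1
  funext x
  set θ : L → ℂ := fun l => (ψ l : ℂ) with hθ
  have hconst : ∀ (y : Model) (l : L), extendByZero L θ ((l : Model)⁻¹ * y * l) = extendByZero L θ y := by
    intro y l
    by_cases hy : y ∈ L
    · have hy' : (l : Model)⁻¹ * y * l ∈ L := L.mul_mem (L.mul_mem (L.inv_mem l.2) hy) l.2
      rw [extendByZero_of_mem L θ hy, extendByZero_of_mem L θ hy']
      show ((ψ (l⁻¹ * ⟨y, hy⟩ * l) : ℂˣ) : ℂ) = _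
      rw [map_mul, map_mul, map_inv, mul_comm (ψ l)⁻¹, inv_mul_cancel_right]
    · rw [extendByZero_of_notMem L θ hy, extendByZero_of_notMem L θ]
      intro hy'
      refine hy ?_
      have := L.mul_mem (L.mul_mem l.2 hy') (L.inv_mem l.2)
      simpa [mul_assoc] using this
  have hrep : ∀ y : Model, extendByZero L θ y = (ph y).elim (0 : ℂ) (fun k => zeta ^ (k : ℕ)) := by
    intro y
    by_cases hy : y ∈ L
    · rw [extendByZero_of_mem L θ hy]
      obtain ⟨a, ha⟩ := Option.isSome_iff_exists.mp (show (ph y).isSome from hy)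
      simp [hθ, θ, ψ, ha, zetaUnit, Units.val_pow_eq_pow_val]
    · rw [extendByZero_of_notMem L θ hy]
      have : ph y = none := Option.not_isSome_iff_eq_none.mp hy
      simp [this]
  simp only [indFun]
  rw [← hbij.sum_comp, Fintype.sum_prod_type]
  have : ∀ i, ∑ l : L, extendByZero L θ ((R i * (l : Model))⁻¹ * x * (R i * l)) =
      (Nat.card L : ℂ) * (ph ((R i)⁻¹ * x * R i)).elim (0 : ℂ) (fun k => zeta ^ (k : ℕ)) := by
    intro i
    rw [Finset.sum_congr rfl (fun (l : L) _ => by
      rw [show (R i * (l : Model))⁻¹ * x * (R i * l) = (l : Model)⁻¹ * ((R i)⁻¹ * x * R i) * l by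
        group, hconst, hrep]), Finset.sum_const, Finset.card_univ, nsmul_eq_mul,
      Nat.card_eq_fintype_card]
  rw [Finset.sum_congr rfl fun i _ => this i, ← Finset.mul_sum, ← mul_assoc,
    inv_mul_cancel₀ (Nat.cast_ne_zero.mpr Nat.card_pos.ne'), one_mul]

theorem isCharacter_monomial_re {n : ℕ} {ph : Model → Option (Fin 12)} {R : Fin n → Model}
    (h : PhaseOK ph R) (him : ∀ x, monSum ph R imTab x = 0)
    (hre : ∀ x, 2 * halve (monSum ph R reTab x) = monSum ph R reTab x) :
    IsCharacter Model (fun x => emb (halve (monSum ph R reTab x))) := by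
  convert isCharacter_monomial h using 1
  funext x
  have e : ∀ t, emb (monSum ph R t x) = ∑ i, (ph ((R i)⁻¹ * x * R i)).elim (0 : ℂ) (fun k => emb (t k)) := by
    intro t
    simp only [monSum, map_sum]
    refine Finset.sum_congr rfl fun i _ => ?_
    cases ph ((R i)⁻¹ * x * R i) <;> simp
  have h2 := congrArg emb (hre x)
  rw [map_mul, map_ofNat] at h2
  refine mul_left_cancel₀ (two_ne_zero (α := ℂ)) ?_
  have key : 2 * (∑ i, (ph ((R i)⁻¹ * x * R i)).elim (0 : ℂ) (fun k => zeta ^ (k : ℕ))) =
      (∑ i, (ph ((R i)⁻¹ * x * R i)).elim (0 : ℂ) (fun k => emb (reTab k))) +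
        Complex.I * ∑ i, (ph ((R i)⁻¹ * x * R i)).elim (0 : ℂ) (fun k => emb (imTab k)) := by
    rw [Finset.mul_sum, Finset.mul_sum, ← Finset.sum_add_distrib]
    refine Finset.sum_congr rfl fun i _ => ?_
    cases ph ((R i)⁻¹ * x * R i) with
    | none => simp
    | some k => simp [two_zeta_pow k]
  rw [h2, key, ← e, ← e, him x, map_zero, mul_zero, add_zero]

theorem tab_zero : ∀ i, tab 0 i = i := by decide

theorem tab_mul_invTab : ∀ x, mulTab x (invTab x) = 0 := by decide

/-- The action on blocks. -/
def blkHom : Model →* Perm (Fin 3) where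
  toFun x :=
    { toFun := tab x.1.p
      invFun := tab (invTab x.1.p)
      left_inv := fun i => tab_invTab _ i
      right_inv := fun i => by rw [← tab_mul, tab_mul_invTab]; exact tab_zero i }
  map_one' := Equiv.ext tab_zero
  map_mul' x y := Equiv.ext fun i => tab_mul _ _ i

/-- The action on oriented blocks. -/
def orientAct (x : Model) (q : Fin 3 × Bool) : Fin 3 × Bool :=
  (tab x.1.p q.1, xor q.2 (odd (x.1.comp q.1)))

theorem orientAct_mul (x y : Model) (q : Fin 3 × Bool) :
    orientAct (x * y) q = orientAct x (orientAct y q) := by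
  simp only [orientAct, Subgroup.coe_mul, Wr.p_mul, Wr.comp_mul, tab_mul, odd_mul]
  refine Prod.ext rfl ?_
  show xor q.2 (xor _ _) = xor (xor q.2 _) _
  cases q.2 <;> cases odd (x.1.comp (tab y.1.p q.1)) <;> cases odd (y.1.comp q.1) <;> rfl

theorem orientAct_one : ∀ q, orientAct 1 q = q := by decide

/-- The action on oriented blocks, numbered. -/
def orientHom : Model →* Perm (Fin 6) :=
  let e : Fin 3 × Bool ≃ Fin 6 := (Equiv.prodCongr (Equiv.refl _) finTwoEquiv.symm).trans finProdFinEquiv
  e.permCongrHom.toMonoidHom.comp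
    { toFun := fun x =>
        { toFun := orientAct x
          invFun := orientAct x⁻¹
          left_inv := fun q => by rw [← orientAct_mul, inv_mul_cancel, orientAct_one]
          right_inv := fun q => by rw [← orientAct_mul, mul_inv_cancel, orientAct_one] }
      map_one' := Equiv.ext orientAct_one
      map_mul' := fun x y => Equiv.ext fun q => orientAct_mul x y q }

theorem blk_values : ∀ x, blkSign x = (Perm.sign (blkHom x) : ℤ) ∧
    fixBlocks x = ((Finset.univ.filter fun j => blkHom x j = j).card : ℤ) ∧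
    signedBlocks x = ((Finset.univ.filter fun j => orientHom x j = j).card : ℤ) - fixBlocks x := by
  decide +kernel

/-- An element of `ℤ[√3]`-valued function as a complex function. -/
noncomputable def lift (F : Model → Zsqrtd 3) : Model → ℂ := fun x => emb (F x)

theorem isGeneralized_vf : ∀ k, IsGeneralizedCharacter Model (lift (vf k)) := by
  have gadd : ∀ {F F' : Model → Zsqrtd 3}, IsGeneralizedCharacter Model (lift F) →
      IsGeneralizedCharacter Model (lift F') →
      IsGeneralizedCharacter Model (lift fun x => F x + F' x) :=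
    fun h h' => by convert h.add h' using 1; funext x; simp [lift]
  have gsub : ∀ {F F' : Model → Zsqrtd 3}, IsGeneralizedCharacter Model (lift F) →
      IsGeneralizedCharacter Model (lift F') →
      IsGeneralizedCharacter Model (lift fun x => F x - F' x) :=
    fun h h' => by convert h.sub h' using 1; funext x; simp [lift]
  have gint : ∀ (f : Model → ℤ), IsGeneralizedCharacter Model (fun x => (f x : ℂ)) →
      IsGeneralizedCharacter Model (lift fun x => (f x : Zsqrtd 3)) :=
    fun f h => by convert h using 1; funext x; simp [lift]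
  have ifix : ∀ {n : ℕ} (π : Model →* Perm (Fin n)), IsGeneralizedCharacter Model
      (fun x => (((Finset.univ.filter fun i => π x i = i).card : ℤ) : ℂ)) := fun π => by
    convert (isCharacter_fixedCount π).isGeneralized using 1
    funext x
    push_cast
    congr!
  have hb : IsGeneralizedCharacter Model (fun x => (blkSign x : ℂ)) := by
    convert (isIrrCharacter_linear ((Units.map (Int.castRingHom ℂ).toMonoidHom).comp
      (Perm.sign.comp blkHom))).isGeneralized using 1
    funext x
    rw [(blk_values x).1]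
    rfl
  have hfb : IsGeneralizedCharacter Model (fun x => (fixBlocks x : ℂ)) := by
    convert ifix blkHom using 1
    funext x
    rw [(blk_values x).2.1]
  have hsb : IsGeneralizedCharacter Model (fun x => (signedBlocks x : ℂ)) := by
    convert (ifix orientHom).sub hfb using 1
    funext x
    rw [(blk_values x).2.2, Pi.sub_apply, Int.cast_sub]
  have hfp : IsGeneralizedCharacter Model (fun x => (fixPoints x : ℂ)) := by
    convert ifix modelPerm using 1
    funext x
    rfl
  have hone : IsGeneralizedCharacter Model (fun _ => (1 : ℂ)) :=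
    (isCharacter_one (G := Model)).isGeneralized
  have hbs : IsGeneralizedCharacter Model (fun x => ((blkSign x * signedBlocks x : ℤ) : ℂ)) := by
    convert hb.mul hsb using 1
    funext x
    simp
  have h2 : IsGeneralizedCharacter Model (fun x => ((fixBlocks x - 1 : ℤ) : ℂ)) := by
    convert hfb.sub hone using 1
    funext x
    simp
  have hU : IsGeneralizedCharacter Model (fun x =>
      ((1 + (fixBlocks x - 1) + signedBlocks x - (fixPoints x - fixBlocks x) : ℤ) : ℂ)) := by
    convert ((hone.add h2).add hsb).sub (hfp.sub hfb) using 1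
    funext x
    simp
  have hX : IsGeneralizedCharacter Model
      (fun x => ((1 + blkSign x * signedBlocks x : ℤ) : ℂ)) := by
    convert hone.add hbs using 1
    funext x
    simp
  have g6 : ∀ b, IsGeneralizedCharacter Model (lift (chSix b)) := fun b =>
    (isCharacter_monomial_re (six_ok b) (fun x => (six_values b x).1)
      (fun x => (six_values b x).2)).isGeneralized
  have g12 : IsGeneralizedCharacter Model (lift chTwelve) :=
    (isCharacter_monomial_re twelve_ok (fun x => (twelve_values x).1)
      (fun x => (twelve_values x).2)).isGeneralized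
  have g8 : ∀ b, IsGeneralizedCharacter Model (lift (chEight b)) := fun b =>
    (isCharacter_monomial_re (eight_ok b) (fun x => (eight_values b x).1)
      (fun x => (eight_values b x).2)).isGeneralized
  intro k
  fin_cases k
  · exact gsub (gadd (gint _ hsb) (gint _ hbs)) (g6 _)
  · exact gsub (gadd (gint _ h2) (g6 _)) (g8 _)
  · exact gint _ hU
  · exact gadd (gsub (gint _ hX) g12) (g8 _)
  · exact gsub (g8 _) (g8 _)
  · exact gsub (g6 _) (g6 _)

end Cfsg.Lib.Recog.ThreeCubedFour
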