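import Cfsg.Agent.Lib.Recog.ThreeCubedFour.Model

/-!
# Tables for the monomial characters of `3^3 : S4`
-/

set_option autoImplicit false
set_option maxRecDepth 100000
set_option synthInstance.maxSize 2000
set_option synthInstance.maxHeartbeats 200000

namespace Cfsg.Lib.Recog.ThreeCubedFour

/-- Conditions for a phase to be a linear character of a subgroup. -/
structure PhaseOK {n : ℕ} (ph : Model → Option (Fin 12)) (R : Fin n → Model) : Prop where
  one : ph 1 = some 0
  mul : ∀ x ∈ Finset.univ.filter (fun x => (ph x).isSome),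
    ∀ y ∈ Finset.univ.filter (fun x => (ph x).isSome), ph (x * y) = addPhase (ph x) (ph y)
  inv : ∀ x, (ph x).isSome → (ph x⁻¹).isSome
  cover : ∀ x, ∃ i, (ph ((R i)⁻¹ * x)).isSome
  card : n * (Finset.univ.filter fun x => (ph x).isSome).card = 648

set_option maxHeartbeats 4000000 in
theorem six_ok : ∀ b, PhaseOK (phaseSix b) repSix := fun b => by
  cases b <;> refine ⟨?_, ?_, ?_, ?_, ?_⟩ <;> decide +kernel

set_option maxHeartbeats 4000000 in
theorem twelve_ok : PhaseOK phaseTwelve repTwelve := by
  refine ⟨?_, ?_, ?_, ?_, ?_⟩ <;> decide +kernel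

set_option maxHeartbeats 4000000 in
theorem eight_ok : ∀ b, PhaseOK (phaseEight b) repEight := fun b => by
  cases b <;> refine ⟨?_, ?_, ?_, ?_, ?_⟩ <;> decide +kernel

theorem six_values : ∀ b x, monSum (phaseSix b) repSix imTab x = 0 ∧
    2 * chSix b x = monSum (phaseSix b) repSix reTab x := by
  decide +kernel

theorem twelve_values : ∀ x, monSum phaseTwelve repTwelve imTab x = 0 ∧
    2 * chTwelve x = monSum phaseTwelve repTwelve reTab x := by
  decide +kernel

theorem eight_values : ∀ b x, monSum (phaseEight b) repEight imTab x = 0 ∧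
    2 * chEight b x = monSum (phaseEight b) repEight reTab x := by
  decide +kernel

end Cfsg.Lib.Recog.ThreeCubedFour
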