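import Cfsg.Agent.Lib.Recog.ThreeCubedFour.Facts
import Cfsg.Agent.Lib.Core.Cores
import Cfsg.Prelude.Def_TwoFusion
import Mathlib.GroupTheory.Sylow

/-!
# A subgroup `3^3 : S4` containing the centralisers of its normal subgroup of order 27
-/

set_option autoImplicit false
set_option linter.unusedSectionVars false
set_option linter.style.haveILetI false
set_option maxRecDepth 100000
set_option synthInstance.maxSize 2000
set_option synthInstance.maxHeartbeats 200000

namespace Cfsg.Lib.Recog.ThreeCubedFour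

universe u

theorem inBase_iff_comp : ∀ x : Model, InBase x ↔ x.1.p = 0 ∧ ∀ j, odd (x.1.comp j) = false := by
  intro x
  constructor
  · rintro ⟨h, ha, hb, hc⟩
    exact ⟨h, fun j => by fin_cases j <;> assumption⟩
  · rintro ⟨h, hj⟩
    exact ⟨h, hj 0, hj 1, hj 2⟩

/-- The subgroup of order 27. -/
def baseSub : Subgroup Model where
  carrier := {x | InBase x}
  one_mem' := by decide
  mul_mem' := fun {x y} hx hy => by
    rw [Set.mem_ofPred_eq, inBase_iff_comp] at *
    refine ⟨?_, fun j => ?_⟩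
    · show mulTab x.1.p y.1.p = 0
      rw [hx.1, hy.1]; rfl
    · show odd ((x.1 * y.1).comp j) = false
      rw [Wr.comp_mul, odd_mul, hx.2, hy.2]; rfl
  inv_mem' := fun {x} hx => by
    rw [Set.mem_ofPred_eq, inBase_iff_comp] at *
    have hodd : ∀ a, odd (invTab a) = odd a := by decide
    refine ⟨?_, fun j => ?_⟩
    · show invTab x.1.p = 0
      rw [hx.1]; rfl
    · show odd (x.1⁻¹.comp j) = false
      rw [Wr.comp_inv, hodd, hx.2]

theorem mem_baseSub {x : Model} : x ∈ baseSub ↔ InBase x := Iff.rfl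

theorem baseSub_normal : baseSub.Normal := by
  refine ⟨fun x hx g => ?_⟩
  rw [mem_baseSub, inBase_iff_comp] at *
  have hodd : ∀ a, odd (invTab a) = odd a := by decide
  have key : ∀ a, mulTab (mulTab a 0) (invTab a) = 0 := by decide
  have htab : ∀ a i, tab (invTab a) i = tab (invTab a) i := fun _ _ => rfl
  refine ⟨?_, fun j => ?_⟩
  · show mulTab (mulTab g.1.p x.1.p) (invTab g.1.p) = 0
    rw [hx.1]; exact key _
  · show odd ((g.1 * x.1 * g.1⁻¹).comp j) = false
    have h0 : ∀ i, tab 0 i = i := by decide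
    rw [Wr.comp_mul, Wr.comp_mul, odd_mul, odd_mul, Wr.comp_inv, hodd, hx.1, h0, hx.2]
    show xor (xor (odd (g.1.comp (tab (invTab g.1.p) j))) false) (odd (g.1.comp (tab (invTab g.1.p) j))) = false
    cases odd (g.1.comp (tab (invTab g.1.p) j)) <;> rfl

theorem nine_nine : ∀ x : Model, nine (nine x) = 1 → nine x = 1 := by decide +kernel

theorem pow_of_three {x : Model} {k : ℕ} (hk : x ^ 3 ^ k = 1) : nine x = 1 := by
  refine nine_nine x ?_
  have hd : orderOf x ∣ 3 ^ k := orderOf_dvd_of_pow_eq_one hk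
  obtain ⟨i, -, hi⟩ := (Nat.dvd_prime_pow Nat.prime_three).mp hd
  have h648 : orderOf x ∣ 2 ^ 3 * 3 ^ 4 := by
    have := orderOf_dvd_natCard x
    rwa [Nat.card_eq_fintype_card, card_model] at this
  have : orderOf x ∣ 3 ^ 4 := by
    refine Nat.Coprime.dvd_of_dvd_mul_left ?_ h648
    rw [hi]
    exact Nat.Coprime.pow _ _ (by norm_num)
  rw [nine_eq, nine_eq, ← pow_mul]
  exact orderOf_dvd_iff_pow_eq_one.mp this

theorem pCore_model : Cfsg.pCore 3 Model = baseSub := by
  haveI := baseSub_normal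
  have hp : IsPGroup 3 baseSub := fun ⟨x, hx⟩ => ⟨1, Subtype.ext (inBase_cube x hx)⟩
  refine le_antisymm (fun x hx => ?_) (Cfsg.Lib.Core.le_pCore' baseSub_normal hp)
  by_contra hb
  have hP := Cfsg.Lib.Core.pCore_isPGroup 3 Model
  have h9 : ∀ y ∈ Cfsg.pCore 3 Model, nine y = 1 := fun y hy => by
    obtain ⟨k, hk⟩ := hP ⟨y, hy⟩
    exact pow_of_three (congrArg Subtype.val hk)
  obtain ⟨g, -, hg⟩ := nine_outside x hb (h9 x hx)
  have hn : (Cfsg.pCore 3 Model).Normal := inferInstance
  exact hg (h9 _ (mul_mem hx (hn.conj_mem x hx g)))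

/-- The standing hypotheses. -/
structure Setting (G : Type u) [Group G] where
  /-- The subgroup. -/
  H : Subgroup G
  /-- The isomorphism. -/
  φ : H ≃* Model
  /-- Its normal subgroup of order 27. -/
  J : Subgroup G
  J_le : J ≤ H
  mem_J : ∀ x : H, (x : G) ∈ J ↔ InBase (φ x)
  cent_le : ∀ j ∈ J, j ≠ 1 → Subgroup.centralizer ({j} : Set G) ≤ H

variable {G : Type u} [Group G] [Finite G] (X : Setting G)

/-- A standard element. -/
def Setting.hom : Model →* G := X.H.subtype.comp X.φ.symm.toMonoidHom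

theorem Setting.hom_mem (x : Model) : X.hom x ∈ X.H := (X.φ.symm x).2

theorem Setting.hom_φ (x : X.H) : X.hom (X.φ x) = x := by simp [Setting.hom]

theorem Setting.φ_hom (x : Model) : X.φ ⟨X.hom x, X.hom_mem x⟩ = x := by simp [Setting.hom]

theorem Setting.hom_injective : Function.Injective X.hom := fun x y h =>
  X.φ.symm.injective (Subtype.ext h)

theorem Setting.hom_mem_J {x : Model} : X.hom x ∈ X.J ↔ InBase x := by
  rw [X.mem_J ⟨X.hom x, X.hom_mem x⟩, X.φ_hom]

theorem Setting.hom_ne_one {x : Model} (h : x ≠ 1) : X.hom x ≠ 1 := fun e =>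
  h (X.hom_injective (e.trans (map_one X.hom).symm))

theorem Setting.comm_J {a b : G} (ha : a ∈ X.J) (hb : b ∈ X.J) : a * b = b * a := by
  have key : ∀ x y : Model, InBase x → InBase y → x * y = y * x := by
    intro x y hx hy
    refine Subtype.ext (Wr.ext_comp ?_ fun j => ?_)
    · show mulTab x.1.p y.1.p = mulTab y.1.p x.1.p
      rw [hx.1, hy.1]
    · show (x.1 * y.1).comp j = (y.1 * x.1).comp j
      rw [inBase_iff_comp] at hx hy
      have h0 : ∀ i, tab 0 i = i := by decide
      have hc : ∀ a b, odd a = false → odd b = false → mulTab a b = mulTab b a := by decide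
      rw [Wr.comp_mul, Wr.comp_mul, hx.1, hy.1, h0]
      exact hc _ _ (hx.2 j) (hy.2 j)
  have := congrArg X.hom (key _ _ ((X.mem_J ⟨a, X.J_le ha⟩).mp ha) ((X.mem_J ⟨b, X.J_le hb⟩).mp hb))
  rwa [map_mul, map_mul, X.hom_φ, X.hom_φ] at this

/-- An element normalising `J` lies in `H`. -/
theorem Setting.mem_H_of_normalize {n : G} (h : ∀ j ∈ X.J, n * j * n⁻¹ ∈ X.J) : n ∈ X.H := by
  classical
  obtain ⟨⟨hb, hb1, -⟩, hB⟩ := cub_facts
  set j := X.hom cubA with hj
  have hjJ : j ∈ X.J := X.hom_mem_J.mpr hb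
  have hj1 : j ≠ 1 := X.hom_ne_one hb1
  set j' := n * j * n⁻¹ with hj'
  have hj'J : j' ∈ X.J := h j hjJ
  have hj'1 : j' ≠ 1 := by
    rw [hj']
    intro e
    rw [mul_inv_eq_one, mul_eq_left] at e
    exact hj1 e
  set x' : Model := X.φ ⟨j', X.J_le hj'J⟩ with hx'
  have hx'b : InBase x' := (X.mem_J _).mp hj'J
  have hx'1 : x' ≠ 1 := fun e => hj'1 (congrArg Subtype.val ((map_eq_one_iff X.φ X.φ.injective).mp e))
  have hhom : X.hom x' = j' := X.hom_φ _
  have hcard : ∀ y : Model, InBase y → y ≠ 1 →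
      Nat.card (Subgroup.centralizer ({X.hom y} : Set G)) =
        (Finset.univ.filter fun z : Model => z * y = y * z).card := by
    intro y hy hy1
    rw [← Fintype.card_subtype, ← Nat.card_eq_fintype_card]
    refine (Nat.card_congr (show {z : Model // z * y = y * z} ≃
        ↥(Subgroup.centralizer ({X.hom y} : Set G)) from
      { toFun := fun z => ⟨X.hom z.1, Subgroup.mem_centralizer_singleton_iff.mpr (by
          rw [← map_mul, ← map_mul, z.2])⟩
        invFun := fun c => ⟨X.φ ⟨c, X.cent_le _ (X.hom_mem_J.mpr hy) (X.hom_ne_one hy1) c.2⟩,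
          X.hom_injective (by
            rw [map_mul, map_mul, X.hom_φ]
            exact Subgroup.mem_centralizer_singleton_iff.mp c.2)⟩
        left_inv := fun z => Subtype.ext (X.φ_hom z.1)
        right_inv := fun c => Subtype.ext (X.hom_φ _) })).symm
  have heq : Nat.card (Subgroup.centralizer ({j'} : Set G)) =
      Nat.card (Subgroup.centralizer ({j} : Set G)) := by
    refine (Nat.card_congr (show ↥(Subgroup.centralizer ({j} : Set G)) ≃
        ↥(Subgroup.centralizer ({j'} : Set G)) from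
      { toFun := fun c => ⟨n * c * n⁻¹, Subgroup.mem_centralizer_singleton_iff.mpr (by
          have := Subgroup.mem_centralizer_singleton_iff.mp c.2
          calc n * (c : G) * n⁻¹ * j' = n * ((c : G) * j) * n⁻¹ := by rw [hj']; group
            _ = n * (j * c) * n⁻¹ := by rw [this]
            _ = _ := by rw [hj']; group)⟩
        invFun := fun c => ⟨n⁻¹ * c * n, Subgroup.mem_centralizer_singleton_iff.mpr (by
          obtain ⟨d, hd⟩ := c
          have hd' : d * (n * j * n⁻¹) = n * j * n⁻¹ * d := Subgroup.mem_centralizer_singleton_iff.mp hd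
          show n⁻¹ * d * n * j = j * (n⁻¹ * d * n)
          calc n⁻¹ * d * n * j = n⁻¹ * (d * (n * j * n⁻¹)) * n := by group
            _ = n⁻¹ * (n * j * n⁻¹ * d) * n := by rw [hd']
            _ = _ := by group)⟩
        left_inv := fun c => Subtype.ext (by show n⁻¹ * (n * (c : G) * n⁻¹) * n = c; group)
        right_inv := fun c => Subtype.ext (by show n * (n⁻¹ * (c : G) * n) * n⁻¹ = c; group) })).symm
  obtain ⟨cA, cB, cC⟩ := base_centralisers
  rw [← hhom, hcard x' hx'b hx'1, hj, hcard cubA hb hb1, cA] at heq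
  have hconj : ∀ g y : Model, (Finset.univ.filter fun z : Model => z * (g * y * g⁻¹) = g * y * g⁻¹ * z).card
      = (Finset.univ.filter fun z : Model => z * y = y * z).card := by
    intro g y
    refine Finset.card_nbij' (fun z => g⁻¹ * z * g) (fun z => g * z * g⁻¹) ?_ ?_ ?_ ?_
    · intro z hz
      simp only [Finset.coe_filter, Finset.mem_univ, true_and, Set.mem_ofPred_eq] at hz ⊢
      calc g⁻¹ * z * g * y = g⁻¹ * (z * (g * y * g⁻¹)) * g := by group
        _ = g⁻¹ * (g * y * g⁻¹ * z) * g := by rw [hz]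
        _ = _ := by group
    · intro z hz
      simp only [Finset.coe_filter, Finset.mem_univ, true_and, Set.mem_ofPred_eq] at hz ⊢
      calc g * z * g⁻¹ * (g * y * g⁻¹) = g * (z * y) * g⁻¹ := by group
        _ = g * (y * z) * g⁻¹ := by rw [hz]
        _ = _ := by group
    · intro z _; simp [mul_assoc]
    · intro z _; simp [mul_assoc]
  rcases base_classes x' hx'b hx'1 with ⟨g, hg⟩ | ⟨g, hg⟩ | ⟨g, hg⟩
  · have hmem : (X.hom g)⁻¹ * n ∈ X.H := by
      refine X.cent_le j hjJ hj1 (Subgroup.mem_centralizer_singleton_iff.mpr ?_)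
      have e : n * j * n⁻¹ = X.hom g * j * (X.hom g)⁻¹ := by
        rw [← hj', ← hhom, ← hg, map_mul, map_mul, map_inv]
      calc (X.hom g)⁻¹ * n * j = (X.hom g)⁻¹ * (n * j * n⁻¹) * n := by group
        _ = (X.hom g)⁻¹ * (X.hom g * j * (X.hom g)⁻¹) * n := by rw [e]
        _ = _ := by group
    have := X.H.mul_mem (X.hom_mem g) hmem
    rwa [mul_inv_cancel_left] at this
  · rw [← hg, hconj, cB] at heq; omega
  · rw [← hg, hconj, cC] at heq; omega

/-- Commuting elements of order three make an element of the base central or generate at most nine. -/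
theorem base_of_large : ∀ w : Model, w ^ 3 = 1 → ¬ InBase w →
    (Finset.univ.filter fun z : Model => z * w = w * z).card ≤ 9 := by
  decide +kernel

/-- The subgroup of order 27 is the only abelian one of exponent three in `H`. -/
theorem Setting.conj_mem_J {g : G} (h : ∀ m ∈ X.J, g * m * g⁻¹ ∈ X.H) {u : G} (hu : u ∈ X.J) :
    g * u * g⁻¹ ∈ X.J := by
  classical
  rw [X.mem_J ⟨g * u * g⁻¹, h u hu⟩]
  by_contra hb
  set w := X.φ ⟨g * u * g⁻¹, h u hu⟩ with hw
  have hu3 : u ^ 3 = 1 := by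
    have := congrArg X.hom (inBase_cube _ ((X.mem_J ⟨u, X.J_le hu⟩).mp hu))
    rwa [map_pow, X.hom_φ, map_one] at this
  have hw3 : w ^ 3 = 1 := by
    refine X.hom_injective ?_
    rw [map_pow, hw, X.hom_φ, map_one, conj_pow, hu3, mul_one, mul_inv_cancel]
  have hsmall := base_of_large w hw3 hb
  let ι : {m : Model // InBase m} → {z : Model // z * w = w * z} := fun m =>
    ⟨X.φ ⟨g * X.hom m.1 * g⁻¹, h _ (X.hom_mem_J.mpr m.2)⟩, by
      rw [hw, ← map_mul, ← map_mul]
      congr 1
      refine Subtype.ext ?_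
      show g * X.hom m.1 * g⁻¹ * (g * u * g⁻¹) = g * u * g⁻¹ * (g * X.hom m.1 * g⁻¹)
      calc g * X.hom m.1 * g⁻¹ * (g * u * g⁻¹) = g * (X.hom m.1 * u) * g⁻¹ := by group
        _ = g * (u * X.hom m.1) * g⁻¹ := by rw [X.comm_J (X.hom_mem_J.mpr m.2) hu]
        _ = _ := by group⟩
  have hι : Function.Injective ι := by
    intro a b hab
    have h1 := congrArg (fun z : {z : Model // z * w = w * z} => X.hom z.1) hab
    simp only [ι, X.hom_φ] at h1
    exact Subtype.ext (X.hom_injective (mul_left_cancel (mul_right_cancel h1)))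
  have h27 : Fintype.card {m : Model // InBase m} = 27 := by
    rw [Fintype.card_subtype]
    decide +kernel
  have hle := Fintype.card_le_of_injective ι hι
  rw [h27, Fintype.card_subtype] at hle
  omega

/-- An element carrying a nonidentity element of `J` into `J` lies in `H`. -/
theorem Setting.mem_H_of_conj {g u : G} (hu : u ∈ X.J) (hu1 : u ≠ 1) (hJ : g * u * g⁻¹ ∈ X.J) :
    g ∈ X.H := by
  have hne : g * u * g⁻¹ ≠ 1 := fun e => hu1 (by
    rw [mul_inv_eq_one, mul_eq_left] at e; exact e)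
  refine X.mem_H_of_normalize fun m hm => X.conj_mem_J (fun m hm => X.cent_le _ hJ hne ?_) hm
  rw [Subgroup.mem_centralizer_singleton_iff]
  calc g * m * g⁻¹ * (g * u * g⁻¹) = g * (m * u) * g⁻¹ := by group
    _ = g * (u * m) * g⁻¹ := by rw [X.comm_J hm hu]
    _ = _ := by group

/-- The two classes of involutions do not fuse. -/
theorem Setting.not_conj : ¬ IsConj (X.hom flipAB) (X.hom blkSwap) := by
  classical
  haveI : Fact (Nat.Prime 3) := ⟨Nat.prime_three⟩
  intro hconj
  obtain ⟨g, hg⟩ := isConj_iff.mp hconj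
  obtain ⟨⟨hA, hA1, hAc⟩, ⟨hB, hB1, hBc⟩⟩ := cub_facts
  set b := X.hom blkSwap
  set v := X.hom cubB
  set t := X.hom cubA
  set K : Subgroup G := Subgroup.centralizer ({b} : Set G) with hK
  have hvK : v ∈ K := Subgroup.mem_centralizer_singleton_iff.mpr (by
    rw [← map_mul, ← map_mul, hBc])
  have hv3 : v ^ 3 = 1 := by rw [← map_pow, inBase_cube _ hB, map_one]
  have ht3 : t ^ 3 = 1 := by rw [← map_pow, inBase_cube _ hA, map_one]
  obtain ⟨P, hP⟩ := (IsPGroup.of_card (n := 1) (p := 3) (G := Subgroup.zpowers (⟨v, hvK⟩ : K))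
    (by
      have hord : orderOf (⟨v, hvK⟩ : K) = 3 := orderOf_eq_prime (Subtype.ext (show v ^ 3 = 1 from hv3))
        (fun e => X.hom_ne_one hB1 (congrArg Subtype.val e))
      rw [Nat.card_zpowers, hord, pow_one])).exists_le_sylow
  have hvP : (⟨v, hvK⟩ : K) ∈ (P : Subgroup K) := hP (Subgroup.mem_zpowers _)
  haveI : Nontrivial ↥(P : Subgroup K) := ⟨⟨_, hvP⟩, 1, fun e => X.hom_ne_one hB1
    (congrArg (fun z : ↥(P : Subgroup K) => ((z : K) : G)) e)⟩
  haveI := P.isPGroup'.center_nontrivial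
  obtain ⟨c, hc1⟩ := exists_ne (1 : Subgroup.center ↥(P : Subgroup K))
  set cG : G := (((c : ↥(P : Subgroup K)) : K) : G) with hcG
  have hcG1 : cG ≠ 1 := fun e => hc1 (Subtype.ext (Subtype.ext (Subtype.ext e)))
  have hccomm : ∀ y ∈ (P : Subgroup K), cG * (y : G) = (y : G) * cG := fun y hy =>
    congrArg (fun z : ↥(P : Subgroup K) => ((z : K) : G))
      ((Subgroup.mem_center_iff.mp c.2 ⟨y, hy⟩).symm)
  have small : ∀ y ∈ (P : Subgroup K), (y : G) ∈ X.H →
      (y : G) = 1 ∨ (y : G) = v ∨ (y : G) = v⁻¹ := by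
    intro y hy hyH
    set yh : X.H := ⟨y, hyH⟩
    have hcomm : X.φ yh * blkSwap = blkSwap * X.φ yh := X.hom_injective (by
      rw [map_mul, map_mul, X.hom_φ]
      exact Subgroup.mem_centralizer_singleton_iff.mp y.2)
    obtain ⟨k, hk⟩ := P.isPGroup' ⟨y, hy⟩
    have hk' : (X.φ yh) ^ 3 ^ k = 1 := X.hom_injective (by
      rw [map_pow, X.hom_φ, map_one]
      exact congrArg (fun z : ↥(P : Subgroup K) => ((z : K) : G)) hk)
    have h := cent_blkSwap _ hcomm (pow_of_three hk')
    rcases h with h | h | h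
    · exact Or.inl (by rw [← X.hom_φ yh, h, map_one])
    · exact Or.inr (Or.inl (by show (yh : G) = v; rw [← X.hom_φ yh, h]))
    · exact Or.inr (Or.inr (by show (yh : G) = v⁻¹; rw [← X.hom_φ yh, h, map_inv]))
  have hcH : cG ∈ X.H := X.cent_le v (X.hom_mem_J.mpr hB) (X.hom_ne_one hB1)
    (Subgroup.mem_centralizer_singleton_iff.mpr (hccomm _ hvP))
  have hcJ : cG ∈ X.J := by
    rcases small _ (c : ↥(P : Subgroup K)).2 hcH with e | e | e
    · exact absurd e hcG1
    · rw [hcG, e]; exact X.hom_mem_J.mpr hB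
    · rw [hcG, e]; exact inv_mem (X.hom_mem_J.mpr hB)
  have hall : ∀ y ∈ (P : Subgroup K), (y : G) = 1 ∨ (y : G) = v ∨ (y : G) = v⁻¹ := fun y hy =>
    small y hy (X.cent_le cG hcJ hcG1 (Subgroup.mem_centralizer_singleton_iff.mpr (hccomm y hy).symm))
  set u : G := g * t * g⁻¹ with hu
  have huK : u ∈ K := by
    rw [hK, Subgroup.mem_centralizer_singleton_iff, hu, ← hg]
    calc g * t * g⁻¹ * (g * X.hom flipAB * g⁻¹) = g * (t * X.hom flipAB) * g⁻¹ := by group
      _ = g * (X.hom flipAB * t) * g⁻¹ := by rw [← map_mul, ← hAc, map_mul]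
      _ = _ := by group
  have hu1 : u ≠ 1 := fun e => X.hom_ne_one hA1 (by rw [hu, mul_inv_eq_one, mul_eq_left] at e; exact e)
  obtain ⟨P', hP'⟩ := (IsPGroup.of_card (n := 1) (p := 3) (G := Subgroup.zpowers (⟨u, huK⟩ : K))
    (by rw [Nat.card_zpowers, pow_one, orderOf_eq_prime (Subtype.ext (show u ^ 3 = 1 by
      rw [hu, conj_pow, ht3]; group)) (fun e => hu1 (congrArg Subtype.val e))])).exists_le_sylow
  obtain ⟨k, hk⟩ := MulAction.exists_smul_eq K P' P
  have hku : k * ⟨u, huK⟩ * k⁻¹ ∈ (P : Subgroup K) := by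
    rw [← hk]
    exact Subgroup.mem_map.mpr ⟨_, hP' (Subgroup.mem_zpowers _), rfl⟩
  set h : G := (k : G) * g with hh
  have he : (k : G) * u * (k : G)⁻¹ = h * t * h⁻¹ := by rw [hu, hh]; group
  have hcases := hall _ hku
  change (k : G) * u * (k : G)⁻¹ = 1 ∨ (k : G) * u * (k : G)⁻¹ = v ∨
    (k : G) * u * (k : G)⁻¹ = v⁻¹ at hcases
  rw [he] at hcases
  have hhH : h ∈ X.H := X.mem_H_of_conj (X.hom_mem_J.mpr hA) (X.hom_ne_one hA1) (by
    rcases hcases with e | e | e <;> rw [e]
    · exact one_mem _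
    · exact X.hom_mem_J.mpr hB
    · exact inv_mem (X.hom_mem_J.mpr hB))
  set hn : X.H := ⟨h, hhH⟩
  have hval : h * t * h⁻¹ = X.hom (X.φ hn * cubA * (X.φ hn)⁻¹) := by
    rw [map_mul, map_mul, map_inv, X.hom_φ]
  rw [hval] at hcases
  rcases hcases with e | e | e
  · have := X.hom_injective (e.trans (map_one X.hom).symm)
    rw [mul_inv_eq_one, mul_eq_left] at this
    exact hA1 this
  · exact (cub_not_conj _).1 (X.hom_injective e)
  · exact (cub_not_conj _).2 (X.hom_injective (e.trans (map_inv X.hom cubB).symm))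

end Cfsg.Lib.Recog.ThreeCubedFour
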