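import Mathlib

/-!
# The group `3^3 : S4` of order 648 inside `Sym(9)`, by blocks
-/

set_option autoImplicit false
set_option maxRecDepth 100000
set_option synthInstance.maxSize 2000
set_option synthInstance.maxHeartbeats 200000

namespace Cfsg.Lib.Recog.ThreeCubedFour

open Equiv

/-- The six permutations of three letters. -/
def tab : Fin 6 → Fin 3 → Fin 3 :=
  ![![0, 1, 2], ![0, 2, 1], ![1, 0, 2], ![1, 2, 0], ![2, 0, 1], ![2, 1, 0]]

/-- Their products. -/
def mulTab : Fin 6 → Fin 6 → Fin 6 :=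
  ![![0, 1, 2, 3, 4, 5], ![1, 0, 4, 5, 2, 3], ![2, 3, 0, 1, 5, 4], ![3, 2, 5, 4, 0, 1],
    ![4, 5, 1, 0, 3, 2], ![5, 4, 3, 2, 1, 0]]

/-- Their inverses. -/
def invTab : Fin 6 → Fin 6 := ![0, 1, 2, 4, 3, 5]

/-- Their parities. -/
def odd : Fin 6 → Bool := ![false, true, true, false, false, true]

theorem tab_mul : ∀ x y i, tab (mulTab x y) i = tab x (tab y i) := by decide +kernel

theorem mulTab_assoc : ∀ x y z, mulTab (mulTab x y) z = mulTab x (mulTab y z) := by decide +kernel

theorem mulTab_one : ∀ x, mulTab 0 x = x ∧ mulTab (invTab x) x = 0 ∧ mulTab x 0 = x := by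
  decide +kernel

theorem tab_invTab : ∀ x i, tab (invTab x) (tab x i) = i := by decide +kernel

theorem odd_mul : ∀ x y, odd (mulTab x y) = xor (odd x) (odd y) := by decide +kernel

/-- Permutations of nine points respecting three blocks. -/
structure Wr where
  /-- the permutation of blocks -/
  p : Fin 6
  /-- the first component -/
  a : Fin 6
  /-- the second component -/
  b : Fin 6
  /-- the third component -/
  c : Fin 6
  deriving DecidableEq

/-- The component at a block. -/
def Wr.comp (w : Wr) : Fin 3 → Fin 6 := ![w.a, w.b, w.c]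

theorem Wr.ext_comp {w v : Wr} (h : w.p = v.p) (hc : ∀ j, w.comp j = v.comp j) : w = v := by
  obtain ⟨p, a, b, c⟩ := w
  obtain ⟨p', a', b', c'⟩ := v
  have h0 : a = a' := hc 0
  have h1 : b = b' := hc 1
  have h2 : c = c' := hc 2
  subst h h0 h1 h2
  rfl

instance wrOne : One Wr := ⟨⟨0, 0, 0, 0⟩⟩

instance wrMul : Mul Wr := ⟨fun w v => ⟨mulTab w.p v.p, mulTab (w.comp (tab v.p 0)) v.a,
  mulTab (w.comp (tab v.p 1)) v.b, mulTab (w.comp (tab v.p 2)) v.c⟩⟩

instance wrInv : Inv Wr := ⟨fun w => ⟨invTab w.p, invTab (w.comp (tab (invTab w.p) 0)),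
  invTab (w.comp (tab (invTab w.p) 1)), invTab (w.comp (tab (invTab w.p) 2))⟩⟩

theorem Wr.comp_mul (w v : Wr) : ∀ j, (w * v).comp j = mulTab (w.comp (tab v.p j)) (v.comp j) := by
  intro j
  fin_cases j <;> rfl

theorem Wr.comp_inv (w : Wr) : ∀ j, w⁻¹.comp j = invTab (w.comp (tab (invTab w.p) j)) := by
  intro j
  fin_cases j <;> rfl

theorem Wr.p_mul (w v : Wr) : (w * v).p = mulTab w.p v.p := rfl

theorem Wr.mul_assoc' (w v u : Wr) : w * v * u = w * (v * u) := by
  refine Wr.ext_comp (mulTab_assoc _ _ _) fun j => ?_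
  simp only [Wr.comp_mul, Wr.p_mul, tab_mul, mulTab_assoc]

theorem Wr.one_mul' (w : Wr) : 1 * w = w := by
  refine Wr.ext_comp (mulTab_one _).1 fun j => ?_
  rw [Wr.comp_mul]
  have : ∀ k, Wr.comp 1 k = 0 := by decide
  rw [this, (mulTab_one _).1]

theorem Wr.inv_mul' (w : Wr) : w⁻¹ * w = 1 := by
  refine Wr.ext_comp (mulTab_one _).2.1 fun j => ?_
  rw [Wr.comp_mul, Wr.comp_inv, tab_invTab, (mulTab_one _).2.1]
  fin_cases j <;> rfl

instance wrGroup : Group Wr := Group.ofLeftAxioms Wr.mul_assoc' Wr.one_mul' Wr.inv_mul'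

/-- The block of a point. -/
def blk (i : Fin 9) : Fin 3 := ⟨i.val / 3, by omega⟩

/-- The position of a point. -/
def pos (i : Fin 9) : Fin 3 := ⟨i.val % 3, by omega⟩

/-- The point at a position in a block. -/
def pt (j k : Fin 3) : Fin 9 := ⟨3 * j.val + k.val, by omega⟩

theorem blk_pt : ∀ j k, blk (pt j k) = j ∧ pos (pt j k) = k := by decide

theorem pt_blk : ∀ i, pt (blk i) (pos i) = i := by decide

/-- The image of a point. -/
def Wr.act (w : Wr) (i : Fin 9) : Fin 9 := pt (tab w.p (blk i)) (tab (w.comp (blk i)) (pos i))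

theorem Wr.act_mul (w v : Wr) (i : Fin 9) : (w * v).act i = w.act (v.act i) := by
  simp only [Wr.act, Wr.p_mul, Wr.comp_mul, tab_mul, (blk_pt _ _).1, (blk_pt _ _).2]

theorem Wr.act_one (i : Fin 9) : (1 : Wr).act i = i := by revert i; decide

/-- The action on nine points. -/
def toPerm : Wr →* Perm (Fin 9) where
  toFun w :=
    { toFun := w.act
      invFun := w⁻¹.act
      left_inv := fun i => by rw [← Wr.act_mul, inv_mul_cancel, Wr.act_one]
      right_inv := fun i => by rw [← Wr.act_mul, mul_inv_cancel, Wr.act_one] }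
  map_one' := Equiv.ext Wr.act_one
  map_mul' w v := Equiv.ext fun i => Wr.act_mul w v i

theorem toPerm_injective : Function.Injective toPerm := by
  intro w v h
  have e : ∀ j k, pt (tab w.p j) (tab (w.comp j) k) = pt (tab v.p j) (tab (v.comp j) k) := by
    intro j k
    have := Equiv.congr_fun h (pt j k)
    change w.act (pt j k) = v.act (pt j k) at this
    simpa only [Wr.act, (blk_pt _ _).1, (blk_pt _ _).2] using this
  have hp : ∀ j, tab w.p j = tab v.p j := fun j => by
    have := congrArg blk (e j 0)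
    rwa [(blk_pt _ _).1, (blk_pt _ _).1] at this
  have hc : ∀ j k, tab (w.comp j) k = tab (v.comp j) k := fun j k => by
    have := congrArg pos (e j k)
    rwa [(blk_pt _ _).2, (blk_pt _ _).2] at this
  have inj : ∀ x y : Fin 6, (∀ i, tab x i = tab y i) → x = y := by decide
  exact Wr.ext_comp (inj _ _ hp) fun j => inj _ _ (hc j)

/-- The parity of the permutation of nine points. -/
def Wr.parity (w : Wr) : Bool :=
  xor (odd w.p) (xor (odd (w.comp 0)) (xor (odd (w.comp 1)) (odd (w.comp 2))))

theorem parity_perm : ∀ (q : Fin 6) (f : Fin 3 → Bool),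
    xor (f (tab q 0)) (xor (f (tab q 1)) (f (tab q 2))) = xor (f 0) (xor (f 1) (f 2)) := by
  decide +kernel

theorem Wr.parity_mul (w v : Wr) : (w * v).parity = xor w.parity v.parity := by
  have h := parity_perm v.p fun j => odd (w.comp j)
  simp only [Wr.parity, Wr.p_mul, Wr.comp_mul, odd_mul]
  revert h
  generalize odd (w.comp (tab v.p 0)) = x0
  generalize odd (w.comp (tab v.p 1)) = x1
  generalize odd (w.comp (tab v.p 2)) = x2
  generalize odd (w.comp 0) = y0
  generalize odd (w.comp 1) = y1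
  generalize odd (w.comp 2) = y2
  generalize odd w.p = a
  generalize odd v.p = b
  generalize odd (v.comp 0) = c0
  generalize odd (v.comp 1) = c1
  generalize odd (v.comp 2) = c2
  revert x0 x1 x2 y0 y1 y2 a b c0 c1 c2
  decide +kernel

/-- The even elements. -/
def evenSub : Subgroup Wr where
  carrier := {w | w.parity = false}
  one_mem' := rfl
  mul_mem' := fun {w v} hw hv => by
    show (w * v).parity = false
    rw [Wr.parity_mul, hw, hv]; rfl
  inv_mem' := fun {w} hw => by
    have h := Wr.parity_mul w⁻¹ w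
    rw [inv_mul_cancel, show w.parity = false from hw] at h
    show w⁻¹.parity = false
    rw [show Wr.parity 1 = false from rfl, Bool.xor_false] at h
    exact h.symm

instance evenSubDecMem : DecidablePred (· ∈ evenSub) := fun w =>
  decidable_of_iff (w.parity = false) Iff.rfl

/-- The group of order 648. -/
abbrev Model : Type := evenSub

/-- The permutation with given parity and rotation. -/
def pick (o : Bool) (r : Fin 3) : Fin 6 := if o then ![1, 2, 5] r else ![0, 3, 4] r

/-- The rotation. -/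
def rotOf : Fin 6 → Fin 3 := ![0, 0, 1, 1, 2, 2]

theorem pick_rotOf : ∀ x, pick (odd x) (rotOf x) = x := by decide

theorem pick_facts : ∀ o r, odd (pick o r) = o ∧ rotOf (pick o r) = r := by decide

/-- The element with given coordinates. -/
def el (q : Fin 6 × Fin 6 × Fin 6 × Fin 3) : Model :=
  ⟨⟨q.1, q.2.1, q.2.2.1, pick (xor (odd q.1) (xor (odd q.2.1) (odd q.2.2.1))) q.2.2.2⟩, by
    show Wr.parity _ = false
    simp only [Wr.parity, Wr.comp, Matrix.cons_val_zero, Matrix.cons_val_one, Matrix.cons_val,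
      (pick_facts _ _).1]
    cases odd q.1 <;> cases odd q.2.1 <;> cases odd q.2.2.1 <;> rfl⟩

theorem el_bijective : Function.Bijective el := by
  refine ⟨?_, ?_⟩
  · rintro ⟨p, a, b, r⟩ ⟨p', a', b', r'⟩ h
    have h' := congrArg Subtype.val h
    simp only [el, Wr.mk.injEq] at h'
    obtain ⟨rfl, rfl, rfl, hr⟩ := h'
    have := congrArg rotOf hr
    rw [(pick_facts _ _).2, (pick_facts _ _).2] at this
    rw [show r = r' from this]
  · rintro ⟨⟨p, a, b, c⟩, h⟩
    refine ⟨(p, a, b, rotOf c), Subtype.ext ?_⟩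
    have h' : xor (odd p) (xor (odd a) (xor (odd b) (odd c))) = false := h
    have : xor (odd p) (xor (odd a) (odd b)) = odd c := by
      revert h'
      cases odd p <;> cases odd a <;> cases odd b <;> cases odd c <;> decide
    show Wr.mk p a b (pick _ _) = _
    simp only [this, pick_rotOf]

/-- The enumeration of the group. -/
instance (priority := high) modelFintype : Fintype Model := Fintype.ofBijective el el_bijective

theorem card_model : Fintype.card Model = 648 := by decide +kernel

/-- The embedding. -/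
def modelPerm : Model →* Perm (Fin 9) := toPerm.comp evenSub.subtype

theorem modelPerm_injective : Function.Injective modelPerm :=
  toPerm_injective.comp Subtype.val_injective

/-- A three-cycle. -/
def rotA : Model := ⟨⟨0, 3, 0, 0⟩, rfl⟩
/-- The three-cycle in the second block. -/
def rotB : Model := ⟨⟨0, 0, 3, 0⟩, rfl⟩
/-- The three-cycle in the third block. -/
def rotC : Model := ⟨⟨0, 0, 0, 3⟩, rfl⟩
/-- The cycle of blocks. -/
def blkCyc : Model := ⟨⟨3, 0, 0, 0⟩, rfl⟩
/-- A double transposition inside two blocks. -/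
def flipAB : Model := ⟨⟨0, 2, 2, 0⟩, rfl⟩
/-- Another one. -/
def flipBC : Model := ⟨⟨0, 0, 2, 2⟩, rfl⟩
/-- Another one. -/
def flipAC : Model := ⟨⟨0, 2, 0, 2⟩, rfl⟩
/-- The exchange of two blocks. -/
def blkSwap : Model := ⟨⟨2, 0, 0, 2⟩, rfl⟩

theorem modelPerm_gens :
    modelPerm rotA = swap (0 : Fin 9) 1 * swap 1 2 ∧
    modelPerm rotB = swap (3 : Fin 9) 4 * swap 4 5 ∧
    modelPerm rotC = swap (6 : Fin 9) 7 * swap 7 8 ∧
    modelPerm blkCyc = swap (0 : Fin 9) 3 * swap 3 6 * (swap (1 : Fin 9) 4 * swap 4 7) *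
      (swap (2 : Fin 9) 5 * swap 5 8) ∧
    modelPerm flipAB = swap (0 : Fin 9) 1 * swap 3 4 ∧
    modelPerm flipAC = swap (0 : Fin 9) 1 * swap 6 7 ∧
    modelPerm blkSwap = swap (0 : Fin 9) 3 * swap 1 4 * swap 2 5 * swap 6 7 := by
  decide +kernel

theorem gens_conj : rotB = blkCyc * rotA * blkCyc⁻¹ ∧ rotC = blkCyc * rotB * blkCyc⁻¹ ∧
    flipBC = blkCyc * flipAB * blkCyc⁻¹ ∧ flipBC = flipAB * flipAC := by
  decide +kernel

/-- The exponent of the cycle of blocks. -/
def expCyc : Fin 6 → Fin 3 := ![0, 2, 0, 1, 2, 1]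

/-- The exponent of the exchange. -/
def expSwap : Fin 6 → Fin 2 := ![0, 1, 1, 0, 0, 1]

/-- The part inside the blocks. -/
def innerPart (x : Model) : Model :=
  x * (blkCyc ^ (expCyc x.1.p).val * blkSwap ^ (expSwap x.1.p).val)⁻¹

/-- The part inside the three-cycles. -/
def rotPart (y : Model) : Model :=
  y * (flipAB ^ (if odd y.1.a then 1 else 0) * flipBC ^ (if odd y.1.c then 1 else 0))⁻¹

theorem decompose_outer : ∀ x : Model,
    x = innerPart x * (blkCyc ^ (expCyc x.1.p).val * blkSwap ^ (expSwap x.1.p).val) ∧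
      (innerPart x).1.p = 0 := by
  decide +kernel

theorem decompose_inner : ∀ y : Model, y.1.p = 0 → y = rotA ^ (rotOf (rotPart y).1.a).val *
    rotB ^ (rotOf (rotPart y).1.b).val * rotC ^ (rotOf (rotPart y).1.c).val *
      (flipAB ^ (if odd y.1.a then 1 else 0) * flipBC ^ (if odd y.1.c then 1 else 0)) := by
  decide +kernel

end Cfsg.Lib.Recog.ThreeCubedFour
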